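import Cfsg.Agent.InvolCalc.ZStarApps
import Cfsg.Agent.InvolCalc.Classes
import Cfsg.Agent.InvolCalc.StronglyEmbedded
import Cfsg.Agent.Coprime.Sylow

/-!
Two-elements, their representatives modulo a normal subgroup, and fusion around a central involution of a
Sylow subgroup (`notes/two_gen_core_v3.md`).
-/

set_option autoImplicit false
set_option linter.unusedSectionVars false

namespace Cfsg.Lib.TwoCore

open Subgroup Cfsg.Lib.InvolCalc

universe u

variable {G : Type u} [Group G]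

/-- an element whose order divides a power of two -/
def TwoElt (w : G) : Prop := ∃ a : ℕ, w ^ 2 ^ a = 1

theorem TwoElt.of_order_two {w : G} (h : orderOf w = 2) : TwoElt w :=
  ⟨1, by rw [pow_one, ← h, pow_orderOf_eq_one]⟩

theorem TwoElt.pow {w : G} (h : TwoElt w) (n : ℕ) : TwoElt (w ^ n) := by
  obtain ⟨a, ha⟩ := h
  exact ⟨a, by rw [← pow_mul, mul_comm, pow_mul, ha, one_pow]⟩

theorem TwoElt.isPGroup {w : G} (h : TwoElt w) : IsPGroup 2 (zpowers w) := by
  haveI : Fact (Nat.Prime 2) := ⟨Nat.prime_two⟩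
  obtain ⟨a, ha⟩ := h
  obtain ⟨i, -, hi⟩ := (Nat.dvd_prime_pow Nat.prime_two).1 (orderOf_dvd_of_pow_eq_one ha)
  exact IsPGroup.of_card (n := i) (by rw [Nat.card_zpowers, hi])

theorem TwoElt.of_mem {P : Subgroup G} (hP : IsPGroup 2 P) {w : G} (hw : w ∈ P) : TwoElt w := by
  obtain ⟨a, ha⟩ := hP ⟨w, hw⟩
  exact ⟨a, congrArg Subtype.val ha⟩

theorem TwoElt.map {B : Type*} [Group B] (f : G →* B) {w : G} (h : TwoElt w) : TwoElt (f w) := by
  obtain ⟨a, ha⟩ := h
  exact ⟨a, by rw [← map_pow, ha, map_one]⟩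

theorem TwoElt.eq_one_of_odd [Finite G] {N : Subgroup G} (hN : Odd (Nat.card N)) {w : G} (h : TwoElt w)
    (hw : w ∈ N) : w = 1 := by
  obtain ⟨a, ha⟩ := h
  exact orderOf_eq_one_iff.1 (Nat.eq_one_of_dvd_coprimes ((Nat.coprime_two_left.2 hN).pow_left a)
    (orderOf_dvd_of_pow_eq_one ha) (orderOf_dvd_natCard _ hw))

theorem order_conj_two {i : G} (hi : orderOf i = 2) (g : G) : orderOf (g * i * g⁻¹) = 2 := by
  rw [← MulAut.conj_apply, MulEquiv.orderOf_eq, hi]

theorem order_conj_two' {i : G} (hi : orderOf i = 2) (g : G) : orderOf (g⁻¹ * i * g) = 2 := by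
  rw [show g⁻¹ * i * g = g⁻¹ * i * g⁻¹⁻¹ by group, order_conj_two hi]

theorem conj_conj_inv (g x : G) : g * (g⁻¹ * x * g) * g⁻¹ = x := by group

/-- a two-element over a two-element, among the powers of any preimage -/
theorem exists_two_rep [Finite G] {B : Type*} [Group B] (f : G →* B) (x : G) (h : TwoElt (f x)) :
    ∃ k : ℕ, f (x ^ k) = f x ∧ TwoElt (x ^ k) := by
  obtain ⟨a, ha⟩ := h
  obtain ⟨e, m, hm, hn⟩ := Nat.exists_eq_two_pow_mul_odd (orderOf_pos x).ne'
  rw [← map_pow] at ha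
  -- a power congruent to one modulo `2 ^ a` and divisible by `m`
  obtain ⟨k, hk1, hk2⟩ := Nat.chineseRemainder
    (show Nat.Coprime (2 ^ a) m from (Nat.coprime_two_left.2 hm).pow_left a) 1 0
  refine ⟨k, ?_, e, ?_⟩
  · rw [map_pow]
    rw [map_pow] at ha
    have hd := orderOf_dvd_of_pow_eq_one ha
    conv_rhs => rw [← pow_one (f x)]
    exact pow_eq_pow_iff_modEq.2 (hk1.of_dvd hd)
  · rw [← pow_mul]
    refine orderOf_dvd_iff_pow_eq_one.1 ?_
    rw [hn, mul_comm]
    exact Nat.mul_dvd_mul (Nat.modEq_zero_iff_dvd.1 hk2) dvd_rfl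

/-- a nontrivial two-element has an involution among its powers -/
theorem exists_involution_pow [Finite G] {w : G} (h : TwoElt w) (h1 : w ≠ 1) :
    ∃ k : ℕ, orderOf (w ^ k) = 2 := by
  obtain ⟨a, ha⟩ := h
  obtain ⟨i, -, hi⟩ := (Nat.dvd_prime_pow Nat.prime_two).1 (orderOf_dvd_of_pow_eq_one ha)
  obtain ⟨j, rfl⟩ : ∃ j, i = j + 1 := ⟨i - 1, by
    have : i ≠ 0 := fun h0 => h1 (orderOf_eq_one_iff.1 (by rw [hi, h0, pow_zero]))
    omega⟩
  refine ⟨2 ^ j, ?_⟩
  rw [orderOf_pow' _ (by positivity), hi, Nat.gcd_eq_right (pow_dvd_pow 2 (Nat.le_succ j)),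
    pow_succ, Nat.mul_div_cancel_left _ (by positivity)]

variable [Finite G]

theorem le_of_sylow_sup (S : Sylow 2 G) {V : Subgroup G} (hV : IsPGroup 2 V)
    (hn : (S : Subgroup G) ≤ normalizer (V : Set G)) : V ≤ (S : Subgroup G) := by
  have h := S.3 (hV.to_sup_of_normal_left' S.2 hn) le_sup_right
  exact h ▸ le_sup_left

theorem mem_sylow_of_commute (S : Sylow 2 G) {w : G} (hw : TwoElt w)
    (hc : ∀ s ∈ (S : Subgroup G), Commute s w) : w ∈ (S : Subgroup G) := by
  refine le_of_sylow_sup S hw.isPGroup (fun s hs => ?_) (mem_zpowers w)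
  refine Cfsg.Lib.ZStarApps.mem_normalizer_of_maps fun a ha => ?_
  obtain ⟨n, rfl⟩ := ha
  exact ⟨n, by rw [((hc s hs).zpow_right n).eq]; group⟩

/-- no swap inside the normalizer of a Sylow subgroup centralizing the pair -/
theorem no_swap (P : Sylow 2 G) {z w : G} (hz : ∀ s ∈ (P : Subgroup G), Commute s z) {n : G}
    (hn : n ∈ normalizer ((P : Subgroup G) : Set G)) (h1 : n * z * n⁻¹ = w) (h2 : n * w * n⁻¹ = z) : z = w := by
  obtain ⟨e, m, hm, he⟩ := Nat.exists_eq_two_pow_mul_odd (orderOf_pos n).ne'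
  have htwo : TwoElt (n ^ m) := ⟨e, by rw [← pow_mul, mul_comm, ← he, pow_orderOf_eq_one]⟩
  have hnm : n ^ m ∈ (P : Subgroup G) := by
    have hle : zpowers (n ^ m) ≤ normalizer ((P : Subgroup G) : Set G) := zpowers_le.2 (pow_mem hn m)
    have h := P.3 (P.2.to_sup_of_normal_left' htwo.isPGroup hle) le_sup_left
    exact h ▸ mem_sup_right (mem_zpowers _)
  have key : ∀ j : ℕ, n ^ (2 * j) * z * (n ^ (2 * j))⁻¹ = z := by
    intro j
    induction j with
    | zero => simp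
    | succ j ih =>
      rw [mul_add, mul_one, pow_add, pow_two,
        show n ^ (2 * j) * (n * n) * z * (n ^ (2 * j) * (n * n))⁻¹ =
          n ^ (2 * j) * (n * (n * z * n⁻¹) * n⁻¹) * (n ^ (2 * j))⁻¹ by group, h1, h2, ih]
  obtain ⟨j, rfl⟩ := hm
  have h3 : n ^ (2 * j + 1) * z * (n ^ (2 * j + 1))⁻¹ = z := by rw [(hz _ hnm).eq, mul_inv_cancel_right]
  rw [pow_succ', show n * n ^ (2 * j) * z * (n * n ^ (2 * j))⁻¹ =
    n * (n ^ (2 * j) * z * (n ^ (2 * j))⁻¹) * n⁻¹ by group, key j, h1] at h3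
  exact h3.symm

/-- with a central involution `t` of the group, the involution `z` of the centre of a Sylow subgroup is not
conjugate to `z * t` -/
theorem not_conj_mul (P : Sylow 2 G) {z t : G} (ht : orderOf t = 2) (htc : t ∈ center G)
    (hzP : z ∈ (P : Subgroup G)) (hz : ∀ s ∈ (P : Subgroup G), Commute s z) (g : G) :
    g * z * g⁻¹ ≠ z * t := by
  intro h
  haveI : Fact (Nat.Prime 2) := ⟨Nat.prime_two⟩
  have hc : ∀ s ∈ (P : Subgroup G), Commute s t := fun s _ => mem_center_iff.1 htc s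
  have hc2 : ∀ s ∈ (P : Subgroup G), Commute s (z * t) := fun s hs => (hz s hs).mul_right (hc s hs)
  obtain ⟨n, hn, hne⟩ := P.conj_eq_normalizer_conj_of_mem_centralizer z g⁻¹
    (mem_centralizer_iff.2 fun s hs => (hz s hs).eq)
    (by rw [inv_inv, h]; exact mem_centralizer_iff.2 fun s hs => (hc2 s hs).eq)
  rw [inv_inv, h] at hne
  have h1 : n⁻¹ * z * n⁻¹⁻¹ = z * t := by rw [inv_inv, ← hne]
  have h2 : n⁻¹ * (z * t) * n⁻¹⁻¹ = z := by
    rw [show n⁻¹ * (z * t) * n⁻¹⁻¹ = n⁻¹ * z * (t * n⁻¹⁻¹) by group, ← mem_center_iff.1 htc,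
      ← mul_assoc, h1, mul_assoc, sq_of_order_two ht, mul_one]
  have := no_swap P hz (inv_mem hn) h1 h2
  exact ne_one_of_order_two ht (left_eq_mul.1 this)

/-- if `z, t, z * t` are the involutions of a Sylow subgroup, `z` is isolated -/
theorem isolated_of_pair (P : Sylow 2 G) {z t : G} (ht : orderOf t = 2) (htc : t ∈ center G)
    (hz2 : orderOf z = 2) (hne : z ≠ t) (hzP : z ∈ (P : Subgroup G)) (hz : ∀ s ∈ (P : Subgroup G), Commute s z)
    (hinv : ∀ x ∈ (P : Subgroup G), orderOf x = 2 → x = z ∨ x = t ∨ x = z * t) :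
    Cfsg.IsIsolatedInvolution z := by
  refine ⟨hz2, fun g hg => isolated_of_unique P hz2 (fun k hk => ?_) hg⟩
  rcases hinv _ hk (order_conj_two hz2 k) with h | h | h
  · exact h
  · refine absurd ?_ hne
    calc z = k⁻¹ * (k * z * k⁻¹) * k := by group
      _ = k⁻¹ * (k * t) := by rw [h, mul_assoc, ← mem_center_iff.1 htc]
      _ = t := inv_mul_cancel_left k t
  · exact absurd h (not_conj_mul P ht htc hzP hz k)

end Cfsg.Lib.TwoCore
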