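import Cfsg.Agent.TwoCore.Local.Engine

/-!
Consequences of the engine in the whole of `X`: the classes of involutions and the odd subgroups of the
stabilizer normalized by a Sylow subgroup (`notes/two_gen_core_v3.md`, case I).
-/

set_option autoImplicit false
set_option linter.unusedSectionVars false
set_option linter.style.haveILetI false

namespace Cfsg.Lib.TwoCore

open Subgroup Cfsg.Lib.InvolCalc Cfsg.Lib.BenderSE

universe u

variable {X : Type u} [Group X] [Finite X] {H : Subgroup X} {t z : X}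

theorem Amb.genAmb (D : Amb H t z) :
    GenAmb (H.subgroupOf (invGen ⊤)) ⟨t, mem_invGen (mem_top t) D.two⟩ ⟨z, mem_invGen (mem_top z) D.ztwo⟩ := by
  obtain ⟨S, hSH, hzS, hz⟩ := D.sylow
  exact D.sub ⊤ (mem_top t) (fun h => D.ne (top_le_iff.1 h)) (S : Subgroup X) S.2 (le_inf le_top hSH)
    (fun Y hY hYle => by
      obtain ⟨h, hh, hhY⟩ := Cfsg.Lib.ZStarApps.exists_conj_mem_sylow S hSH hY (hYle.trans inf_le_right)
      exact ⟨h, mem_inf.2 ⟨mem_top h, hh⟩, hhY⟩) z hzS hz D.ztwo D.zne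

theorem Amb.invGen_not_le (D : Amb H t z) : ¬ invGen (⊤ : Subgroup X) ≤ H := fun h =>
  D.genAmb.ne (subgroupOf_eq_top.2 h)

theorem Amb.invGen_normal (_D : Amb H t z) : (invGen (⊤ : Subgroup X)).Normal :=
  ⟨fun _ hn g => invGen_conj (mem_top g) hn⟩

/-- two-elements in `H` moved inside `H` by an element of the involution subgroup -/
theorem Amb.tight_mem (D : Amb H t z) {g w : X} (hg : g ∈ invGen ⊤) (hgH : g ∉ H)
    (hw : w ∈ invGen ⊤) (hw2 : TwoElt w) (hwH : w ∈ H) (hwg : g⁻¹ * w * g ∈ H) : w = 1 ∨ w = t := by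
  obtain ⟨a, ha⟩ := hw2
  rcases D.genAmb.tight ⟨g, hg⟩ hgH ⟨w, hw⟩ ⟨a, Subtype.ext ha⟩ hwH hwg with h | h
  · exact Or.inl (congrArg Subtype.val h)
  · exact Or.inr (congrArg Subtype.val h)

theorem Amb.core_two (D : Amb H t z) {n : X} (hn : n ∈ invGen ⊤)
    (hcore : ∀ g ∈ invGen (⊤ : Subgroup X), g * n * g⁻¹ ∈ H) (h2 : TwoElt n) : n = 1 ∨ n = t := by
  obtain ⟨g, hg, hgH⟩ := SetLike.not_le_iff_exists.1 D.invGen_not_le
  refine D.tight_mem hg hgH hn h2 (by simpa using hcore 1 (one_mem _)) ?_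
  simpa using hcore g⁻¹ (inv_mem hg)

/-- an involution is conjugate to `z` or to `z * t` -/
theorem Amb.class_two (D : Amb H t z) {y : X} (hy : orderOf y = 2) (hyt : y ≠ t) :
    ∃ g ∈ invGen (⊤ : Subgroup X), g * z * g⁻¹ = y ∨ g * (z * t) * g⁻¹ = y := by
  haveI : Fact (Nat.Prime 2) := ⟨Nat.prime_two⟩
  haveI hLn := D.invGen_normal
  set L := invGen (⊤ : Subgroup X)
  set N := (H.subgroupOf L).normalCore.map L.subtype with hN
  have hyL : y ∈ L := mem_invGen (mem_top y) hy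
  have hzL : z ∈ L := mem_invGen (mem_top z) D.ztwo
  obtain ⟨g, hg⟩ := isConj_iff.1 (D.genAmb.conj_images (fun {L'} _ _ {H'} {t' z'} _ D' => D'.tight)
    (i := ⟨y, hyL⟩) (by rw [Subgroup.orderOf_mk, hy]) (fun h => hyt (congrArg Subtype.val h)))
  obtain ⟨g, rfl⟩ := QuotientGroup.mk'_surjective _ g
  rw [← map_inv, ← map_mul, ← map_mul] at hg
  set n : L := g⁻¹ * (g * ⟨z, hzL⟩ * g⁻¹)⁻¹ * ⟨y, hyL⟩ * g with hn
  have hnN : n ∈ (H.subgroupOf L).normalCore := by
    have h1 := Normal.conj_mem (normalCore_normal (H.subgroupOf L)) _ (QuotientGroup.eq.1 hg) g⁻¹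
    rw [inv_inv] at h1
    convert h1 using 1
    rw [hn]
    group
  -- a Sylow subgroup of `⟨z⟩` times the core
  obtain ⟨S, hSH, hzS, hz⟩ := D.genAmb.sylow
  set zL : L := ⟨z, hzL⟩
  set K := (H.subgroupOf L).normalCore ⊔ zpowers zL with hK
  have hSK : (S : Subgroup L) ≤ normalizer (K : Set L) := fun s hs =>
    Cfsg.Lib.ZStarApps.mem_normalizer_of_maps fun a ha => by
      obtain ⟨m, hm, _, ⟨j, rfl⟩, rfl⟩ := mem_sup_of_normal_left.1 ha
      rw [show s * (m * zL ^ j) * s⁻¹ = (s * m * s⁻¹) * (s * zL ^ j * s⁻¹) by group,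
        ((hz s hs).zpow_right j).eq, mul_inv_cancel_right]
      exact mul_mem_sup (Normal.conj_mem (normalCore_normal _) m hm s) ⟨j, rfl⟩
  obtain ⟨P, hP⟩ := Cfsg.Lib.BenderSE.CritDep.exists_sylow_inf S K hSK
  set e : L := g⁻¹ * ⟨y, hyL⟩ * g with he
  have he2 : orderOf e = 2 := order_conj_two' (by rw [Subgroup.orderOf_mk, hy]) g
  have heK : e ∈ K := by
    rw [show e = zL * n by rw [he, hn]; group, hK]
    exact mul_mem (mem_sup_right (mem_zpowers zL)) (mem_sup_left hnN)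
  obtain ⟨k, -, hk⟩ := Cfsg.Lib.ZStarApps.exists_conj_mem_sylow P (H := ⊤) le_top
    (V := zpowers ⟨e, heK⟩) (TwoElt.of_order_two (by rw [Subgroup.orderOf_mk, he2])).isPGroup le_top
  have hk' := hk _ (mem_zpowers _)
  rw [hP, mem_subgroupOf] at hk'
  set f : L := (k : L) * e * (k : L)⁻¹ with hf
  have hfS : f ∈ (S : Subgroup L) := hk'
  have hf2 : orderOf f = 2 := order_conj_two he2 _
  obtain ⟨m, hm, _, ⟨j, rfl⟩, hmf⟩ := mem_sup_of_normal_left.1
    (show f ∈ (H.subgroupOf L).normalCore ⊔ zpowers zL from mul_mem (mul_mem k.2 heK) (inv_mem k.2))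
  have hmS : m ∈ (S : Subgroup L) := by
    rw [show m = f * (zL ^ j)⁻¹ from eq_mul_inv_of_mul_eq hmf]
    exact mul_mem hfS (inv_mem (zpow_mem hzS j))
  have hm1 : (m : X) = 1 ∨ (m : X) = t := D.core_two m.2
    (fun a ha => (Subgroup.normalCore_le (H.subgroupOf L)
      (Normal.conj_mem (normalCore_normal _) m hm (⟨a, ha⟩ : L))))
    ((TwoElt.of_mem S.2 hmS).map L.subtype)
  have hzj : zL ^ j = 1 ∨ zL ^ j = zL := by
    have hz2 : zL * zL = 1 := Subtype.ext (sq_of_order_two D.ztwo)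
    rcases Int.even_or_odd j with ⟨i, rfl⟩ | ⟨i, rfl⟩
    · exact Or.inl (by rw [← two_mul, zpow_mul, zpow_two, hz2, one_zpow])
    · exact Or.inr (by rw [zpow_add, zpow_mul, zpow_two, hz2, one_zpow, zpow_one, one_mul])
  set a : X := ((g : L) : X) * ((k : L) : X)⁻¹ with ha
  have hfa : a * (f : X) * a⁻¹ = y := by
    simp only [hf, he, ha, Subgroup.coe_mul, Subgroup.coe_inv]
    group
  refine ⟨a, mul_mem g.2 (inv_mem (k : L).2), ?_⟩
  have hfX : (f : X) = (m : X) * ((zL ^ j : L) : X) := congrArg Subtype.val hmf.symm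
  rcases hzj with h | h <;> rw [h] at hfX <;> rcases hm1 with e1 | e1 <;> rw [e1] at hfX
  · rw [hfX, Subgroup.coe_one, one_mul, mul_one, mul_inv_cancel] at hfa
    exact absurd hfa.symm (ne_one_of_order_two hy)
  · rw [hfX, Subgroup.coe_one, mul_one, mem_center_iff.1 D.cent a, mul_inv_cancel_right] at hfa
    exact absurd hfa.symm hyt
  · rw [hfX, one_mul] at hfa
    exact Or.inl hfa
  · rw [hfX, ← mem_center_iff.1 D.cent] at hfa
    exact Or.inr hfa

/-- transitivity: `X = L * centralizer z` -/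
theorem Amb.exists_centralizing (D : Amb H t z) (x : X) :
    ∃ l ∈ invGen (⊤ : Subgroup X), ∃ c ∈ centralizer ({z} : Set X), x = l * c := by
  obtain ⟨S, -, hzS, hz⟩ := D.sylow
  have hxt : x * z * x⁻¹ ≠ t := fun h => D.zne (by
    calc z = x⁻¹ * (x * z * x⁻¹) * x := by group
      _ = x⁻¹ * (x * t) := by rw [h, mul_assoc, ← mem_center_iff.1 D.cent]
      _ = t := inv_mul_cancel_left x t)
  obtain ⟨l, hl, h | h⟩ := D.class_two (order_conj_two D.ztwo x) hxt
  · refine ⟨l, hl, l⁻¹ * x, mem_centralizer_singleton_iff.2 ?_, by group⟩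
    calc l⁻¹ * x * z = l⁻¹ * (x * z * x⁻¹) * x := by group
      _ = l⁻¹ * (l * z * l⁻¹) * x := by rw [h]
      _ = z * (l⁻¹ * x) := by group
  · refine absurd ?_ (not_conj_mul S D.two D.cent hzS hz (l⁻¹ * x))
    calc l⁻¹ * x * z * (l⁻¹ * x)⁻¹ = l⁻¹ * (x * z * x⁻¹) * l := by group
      _ = l⁻¹ * (l * (z * t) * l⁻¹) * l := by rw [h]
      _ = z * t := by group

theorem Amb.centralizer_le (D : Amb H t z) {i : X} (hi : orderOf i = 2) (hit : i ≠ t) (hiH : i ∈ H) :
    centralizer ({i} : Set X) ≤ H := fun c hc => D.single i hi hit hiH c (by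
  rwa [mul_assoc, ← mem_centralizer_singleton_iff.1 hc, inv_mul_cancel_left])

/-- a central subgroup with a Sylow two-subgroup `⟨t⟩`: the odd core has index two -/
theorem sq_mem_core_of_central {N : Type u} [Group N] [Finite N] {t : N} (ht : t ∈ center N) (ht2 : orderOf t = 2)
    (h : ∀ w : N, TwoElt w → w = 1 ∨ w = t) (n : N) :
    n ∈ Cfsg.pPrimeCore 2 N ∨ n * t ∈ Cfsg.pPrimeCore 2 N := by
  haveI : Fact (Nat.Prime 2) := ⟨Nat.prime_two⟩
  obtain ⟨P⟩ := (inferInstance : Nonempty (Sylow 2 N))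
  have hPc : ∀ p ∈ (P : Subgroup N), p ∈ center N := fun p hp => by
    rcases h p (TwoElt.of_mem P.2 hp) with e | e <;> rw [e]
    · exact one_mem _
    · exact ht
  have hle : normalizer ((P : Subgroup N) : Set N) ≤ centralizer ((P : Subgroup N) : Set N) := fun a _ =>
    mem_centralizer_iff.2 fun p hp => (mem_center_iff.1 (hPc p hp) a).symm
  have hcomp := MonoidHom.ker_transferSylow_isComplement' P hle
  set K := (MonoidHom.transferSylow P hle).ker
  have hKodd : Odd (Nat.card K) := by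
    have := hcomp.index_eq_card
    rw [← Nat.not_even_iff_odd]
    intro he
    exact P.not_dvd_index (this ▸ he.two_dvd)
  have hKle : K ≤ Cfsg.pPrimeCore 2 N := Cfsg.Lib.Components.le_pPrimeCore (Nat.coprime_two_right.2 hKodd)
  obtain ⟨⟨k, p⟩, hkp⟩ := (hcomp.existsUnique n).exists
  have hkp' : (k : N) * (p : N) = n := hkp
  rcases h p (TwoElt.of_mem P.2 p.2) with e | e
  · exact Or.inl (by rw [← hkp', e, mul_one]; exact hKle k.2)
  · exact Or.inr (by rw [← hkp', e, mul_assoc, sq_of_order_two ht2, mul_one]; exact hKle k.2)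

/-- the involutions centralize, modulo the core, the odd subgroups of the stabilizer normalized by `S` -/
theorem Amb.comm_core (D : Amb H t z) (S : Sylow 2 X) (hSH : (S : Subgroup X) ≤ H) {x : X}
    (hx : orderOf x = 2) (hxz : Commute x z)
    (hxne : x ≠ t ∧ x ≠ z ∧ x ≠ z * t) {E : Subgroup X} (hEH : E ≤ H) (hE : Odd (Nat.card E))
    (hES : (S : Subgroup X) ≤ normalizer (E : Set X)) :
    ∀ l ∈ invGen (⊤ : Subgroup X), ∀ e ∈ E, QuotientGroup.mk' (Cfsg.pPrimeCore 2 X) (l * e * l⁻¹) =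
      QuotientGroup.mk' (Cfsg.pPrimeCore 2 X) e := by
  haveI : Fact (Nat.Prime 2) := ⟨Nat.prime_two⟩
  haveI hLn := D.invGen_normal
  set L := invGen (⊤ : Subgroup X) with hL
  set X1 := L ⊔ E with hX1
  set H1 := H.subgroupOf X1 with hH1
  set N1 := H1.normalCore with hN1
  have hEX1 : ∀ {e : X}, e ∈ E → e ∈ X1 := fun {e} he => mem_sup_right he
  have hzL : z ∈ L := mem_invGen (mem_top z) D.ztwo
  -- two-elements of `X1` lie in `L`
  have htwo : ∀ {w : X}, w ∈ X1 → TwoElt w → w ∈ L := by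
    intro w hw hw2
    obtain ⟨l, hl, e, he, rfl⟩ := mem_sup_of_normal_left.1 hw
    have h1 : QuotientGroup.mk' L (l * e) = QuotientGroup.mk' L e := by
      rw [map_mul, show QuotientGroup.mk' L l = 1 from (QuotientGroup.eq_one_iff l).2 hl, one_mul]
    refine (QuotientGroup.eq_one_iff _).1 (show QuotientGroup.mk' L (l * e) = 1 from ?_)
    refine TwoElt.eq_one_of_odd (N := E.map (QuotientGroup.mk' L)) (hE.of_dvd_nat (card_map_dvd _ _))
      (hw2.map _) (h1 ▸ mem_map_of_mem _ he)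
  have htight : ∀ g : X1, g ∉ H1 → ∀ w : X1, TwoElt w → w ∈ H1 → g⁻¹ * w * g ∈ H1 → (w : X) = 1 ∨ (w : X) = t := by
    intro g hg w hw hwH hwg
    obtain ⟨l, hl, e, he, hle⟩ := mem_sup_of_normal_left.1 g.2
    have hw' : TwoElt (w : X) := hw.map X1.subtype
    have hgX : (g : X)⁻¹ * (w : X) * (g : X) ∈ H := hwg
    have hlH : l ∉ H := fun h => hg (show (g : X) ∈ H from hle ▸ mul_mem h (hEH he))
    refine D.tight_mem hl hlH (htwo w.2 hw') hw' hwH ?_
    have h1 := mul_mem (mul_mem (hEH he) hgX) (inv_mem (hEH he))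
    rwa [← hle, show e * ((l * e)⁻¹ * (w : X) * (l * e)) * e⁻¹ = l⁻¹ * (w : X) * l by group] at h1
  obtain ⟨g, hgL, hgH⟩ := SetLike.not_le_iff_exists.1 D.invGen_not_le
  have hNtwo : ∀ w ∈ N1, TwoElt w → (w : X) = 1 ∨ (w : X) = t := fun w hw hw2 =>
    htight ⟨g, mem_sup_left hgL⟩ hgH w hw2 (H1.normalCore_le hw)
      (H1.normalCore_le ((by simpa using Normal.conj_mem (normalCore_normal H1) w hw (⟨g, mem_sup_left hgL⟩ : X1)⁻¹)))
  set q := QuotientGroup.mk' N1 with hq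
  have hqs : Function.Surjective q := QuotientGroup.mk'_surjective N1
  set Hb := H1.map q with hHb
  have hmap : ∀ {a : X1}, q a ∈ Hb ↔ a ∈ H1 := by
    intro a
    refine ⟨?_, fun h => mem_map_of_mem _ h⟩
    rintro ⟨h, hh, he⟩
    have h2 := mul_mem hh (H1.normalCore_le (QuotientGroup.eq.1 he))
    rwa [mul_inv_cancel_left] at h2
  have hxL : x ∈ L := mem_invGen (mem_top x) hx
  set z1 : X1 := ⟨z, mem_sup_left hzL⟩
  set x1 : X1 := ⟨x, mem_sup_left hxL⟩
  have hne2 : ∀ a : X1, orderOf (a : X) = 2 → (a : X) ≠ t → orderOf (q a) = 2 := fun a ha hat =>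
    order_two_of_mul_self (by rw [← map_mul, show a * a = 1 from Subtype.ext (sq_of_order_two ha), map_one])
      fun h => (hNtwo a ((QuotientGroup.eq_one_iff a).1 h) (TwoElt.of_order_two (by rwa [← Subgroup.orderOf_coe]))).elim
        (ne_one_of_order_two ha) hat
  have hzq := hne2 z1 D.ztwo D.zne
  have hse : Cfsg.IsStronglyEmbedded Hb := by
    refine ⟨fun h => hgH (hmap.1 (h.ge (mem_top (q ⟨g, mem_sup_left hgL⟩)))),
      even_iff_two_dvd.2 (hzq ▸ orderOf_dvd_natCard _ (mem_map_of_mem q (show z1 ∈ H1 from D.zH))),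
      fun a ha => ?_⟩
    rw [← Nat.not_even_iff_odd]
    intro hev
    obtain ⟨v, hv, hv2⟩ := Cfsg.Lib.StrongEmb.exists_involution_of_even hev
    obtain ⟨a, rfl⟩ := hqs a
    obtain ⟨b, rfl⟩ := hqs v
    obtain ⟨k, hk, hk2⟩ := exists_two_rep q b (TwoElt.of_order_two hv2)
    obtain ⟨h1, h2⟩ := mem_inf.1 hv
    rw [Cfsg.Lib.StrongEmb.mem_conj_iff, ← hk, ← map_inv, ← map_mul, ← map_mul, hmap] at h2
    rw [← hk, hmap] at h1
    have hN : b ^ k ∈ N1 := by
      rcases htight a (fun h => ha (mem_map_of_mem _ h)) _ hk2 h1 h2 with e | e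
      · rw [show b ^ k = 1 from Subtype.ext e]; exact one_mem _
      · intro c
        show ((c * b ^ k * c⁻¹ : X1) : X) ∈ H
        rw [Subgroup.coe_mul, Subgroup.coe_mul, Subgroup.coe_inv, e, mem_center_iff.1 D.cent, mul_inv_cancel_right]
        exact D.tH
    rw [show q b = 1 from hk.symm.trans ((QuotientGroup.eq_one_iff _).2 hN), orderOf_one] at hv2
    exact absurd hv2 (by norm_num)
  have hcore : Hb.normalCore = ⊥ := (Subgroup.eq_bot_iff_forall _).2 fun y hy => by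
    obtain ⟨a, rfl⟩ := hqs y
    refine (QuotientGroup.eq_one_iff a).2 fun c => hmap.1 ?_
    rw [map_mul, map_mul, map_inv]
    exact hy _
  have h2 : HasCommutingInvolutions (X1 ⧸ N1) := by
    refine ⟨q z1, q x1, hzq, hne2 x1 hx hxne.1, fun h => ?_,
      by rw [← map_mul, show z1 * x1 = x1 * z1 from Subtype.ext hxz.eq.symm, map_mul]⟩
    have h1 : z1 * x1 ∈ N1 := (QuotientGroup.eq_one_iff _).1 (by
      show q (z1 * x1) = 1
      rw [map_mul, h, ← map_mul, show x1 * x1 = 1 from Subtype.ext (sq_of_order_two hx), map_one])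
    have hsq : (z * x) * (z * x) = 1 := by
      rw [hxz.mul_mul_mul_comm, sq_of_order_two D.ztwo, sq_of_order_two hx, one_mul]
    rcases hNtwo _ h1 ⟨1, Subtype.ext (by rw [pow_one, pow_two]; exact hsq)⟩ with e | e
    · exact hxne.2.1 ((inv_eq_of_mul_eq_one_right e).symm.trans (inv_of_order_two D.ztwo))
    · exact hxne.2.2 (by rw [← e]; show x = z * (z * x); rw [← mul_assoc, sq_of_order_two D.ztwo, one_mul])
  have hset : Setting Hb := ⟨hse, hcore, h2⟩
  obtain ⟨LF, Q, F⟩ := exists_frame regProp hset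
  -- the Sylow subgroup of the frame
  have hSX1 : (S : Subgroup X) ≤ normalizer (X1 : Set X) := fun s hs =>
    Cfsg.Lib.ZStarApps.mem_normalizer_of_maps fun a ha => by
      obtain ⟨l, hl, e, he, rfl⟩ := mem_sup_of_normal_left.1 ha
      rw [show s * (l * e) * s⁻¹ = (s * l * s⁻¹) * (s * e * s⁻¹) by group]
      exact mul_mem_sup (hLn.conj_mem l hl s) ((mem_normalizer_iff.1 (hES hs) e).1 he)
  obtain ⟨P, hP⟩ := Cfsg.Lib.BenderSE.CritDep.exists_sylow_inf S X1 hSX1
  have hPH : (P : Subgroup X1) ≤ H1 := by rw [hP]; exact fun a ha => hSH ha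
  have hQP : Q = (P : Subgroup X1).map q := by
    obtain ⟨S0, hS0⟩ := F.sylow
    have hn : (P : Subgroup X1).map q ≤ normalizer (Q : Set (X1 ⧸ N1)) := (map_mono hPH).trans F.qn
    have h3 := (P.mapSurjective hqs).3 ((P.2.map q).to_sup_of_normal_right' F.q2 hn) le_sup_left
    refine hS0.symm.trans (S0.3 (P.2.map q) ?_).symm
    rw [hS0]
    intro a ha
    have h4 : a ∈ (P : Subgroup X1).map q ⊔ Q := mem_sup_right ha
    rwa [h3] at h4
  set E1 := (E.subgroupOf X1).map q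
  have hE1 : E1 = ⊥ := by
    refine F.eq_bot_of_odd hset ?_ ?_ ?_
    · rintro _ ⟨a, ha, rfl⟩; exact mem_map_of_mem _ (show a ∈ H1 from hEH ha)
    · rw [hQP]
      rintro _ ⟨p, hp, rfl⟩
      refine Cfsg.Lib.ZStarApps.mem_normalizer_of_maps ?_
      rintro _ ⟨a, ha, rfl⟩
      rw [← map_inv, ← map_mul, ← map_mul]
      rw [hP] at hp
      exact mem_map_of_mem _ ((mem_normalizer_iff.1 (hES hp) _).1 ha)
    · refine hE.of_dvd_nat ((card_map_dvd _ _).trans ?_)
      rw [Nat.card_congr (subgroupOfEquivOfLe (le_sup_right : E ≤ X1)).toEquiv]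
  have hEN : ∀ {e : X} (he : e ∈ E), (⟨e, hEX1 he⟩ : X1) ∈ N1 := fun {e} he =>
    (QuotientGroup.eq_one_iff _).1 ((Subgroup.eq_bot_iff_forall _).1 hE1 _ ⟨⟨e, hEX1 he⟩, he, rfl⟩)
  -- `L` centralizes `E` modulo the core of `X`
  set p := QuotientGroup.mk' (Cfsg.pPrimeCore 2 X) with hp
  intro l hl e he
  set c := e⁻¹ * (l * e * l⁻¹) with hc
  have hcL : c ∈ L := by
    rw [hc, show e⁻¹ * (l * e * l⁻¹) = e⁻¹ * l * e⁻¹⁻¹ * l⁻¹ by group]
    exact mul_mem (hLn.conj_mem l hl _) (inv_mem hl)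
  have hcN : (⟨c, mem_sup_left hcL⟩ : X1) ∈ N1 := by
    have h1 := mul_mem (inv_mem (hEN he)) (Normal.conj_mem (normalCore_normal H1) _ (hEN he) ⟨l, mem_sup_left hl⟩)
    exact h1
  set NX := L ⊓ H.normalCore with hNX
  have hcX : c ∈ NX := by
    refine mem_inf.2 ⟨hcL, fun a => ?_⟩
    obtain ⟨l', hl', d, hd, hde⟩ := D.exists_centralizing a⁻¹
    have ha : a = d⁻¹ * l'⁻¹ := by rw [← mul_inv_rev, ← hde, inv_inv]
    have h1 : l'⁻¹ * c * l' ∈ H := by
      have h2 : ((⟨l', mem_sup_left hl'⟩ : X1)⁻¹ * ⟨c, mem_sup_left hcL⟩ * ⟨l', mem_sup_left hl'⟩) ∈ H1 := by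
        have h3 := H1.normalCore_le (Normal.conj_mem (normalCore_normal H1) _ hcN (⟨l', mem_sup_left hl'⟩ : X1)⁻¹)
        rwa [inv_inv] at h3
      exact h2
    have hdH : d ∈ H := D.centralizer_le D.ztwo D.zne D.zH hd
    rw [ha, show d⁻¹ * l'⁻¹ * c * (d⁻¹ * l'⁻¹)⁻¹ = d⁻¹ * (l'⁻¹ * c * l') * d by group]
    exact mul_mem (mul_mem (inv_mem hdH) h1) hdH
  haveI : NX.Normal := inferInstance
  have htNX : t ∈ NX := mem_inf.2 ⟨mem_invGen (mem_top t) D.two, fun a => by
    rw [mem_center_iff.1 D.cent a, mul_inv_cancel_right]; exact D.tH⟩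
  have hOle : (Cfsg.pPrimeCore 2 NX).map NX.subtype ≤ Cfsg.pPrimeCore 2 X := by
    haveI : ((Cfsg.pPrimeCore 2 NX).map NX.subtype).Normal := ConjAct.normal_of_characteristic_of_normal
    refine Cfsg.Lib.Components.le_pPrimeCore (Nat.coprime_two_right.2 ?_)
    rw [card_map_of_injective NX.subtype_injective]
    exact Cfsg.Lib.ZStarApps.odd_card_pPrimeCore
  have hpt : p t * p t = 1 := by rw [← map_mul, sq_of_order_two D.two, map_one]
  have hpc : p c = 1 ∨ p c = p t := by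
    rcases sq_mem_core_of_central (N := NX) (t := ⟨t, htNX⟩)
      (mem_center_iff.2 fun a => Subtype.ext (mem_center_iff.1 D.cent a)) (by rw [Subgroup.orderOf_mk, D.two])
      (fun w hw => by
        rcases D.core_two (mem_inf.1 w.2).1 (fun a _ => (mem_inf.1 w.2).2 a) (hw.map NX.subtype) with e | e
        · exact Or.inl (Subtype.ext e)
        · exact Or.inr (Subtype.ext e)) ⟨c, hcX⟩ with h | h
    · exact Or.inl ((QuotientGroup.eq_one_iff c).2 (hOle ⟨_, h, rfl⟩))
    · refine Or.inr ?_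
      have h1 : p (c * t) = 1 := (QuotientGroup.eq_one_iff _).2 (hOle ⟨_, h, rfl⟩)
      rw [map_mul] at h1
      rw [eq_inv_of_mul_eq_one_left h1]
      exact inv_eq_of_mul_eq_one_right hpt
  have hle : l * e * l⁻¹ = e * c := by rw [hc, mul_inv_cancel_left]
  rcases hpc with h | h
  · rw [hle, map_mul, h, mul_one]
  exfalso
  obtain ⟨k, hk⟩ := hE
  have h1 : (l * e * l⁻¹) ^ (2 * k + 1) = 1 := by
    rw [conj_pow, ← hk]
    have : e ^ Nat.card E = 1 := congrArg Subtype.val (pow_card_eq_one' (x := (⟨e, he⟩ : E)) :)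
    rw [this, mul_one, mul_inv_cancel]
  have h2 : p e ^ (2 * k + 1) = 1 := by
    rw [← map_pow, ← hk]
    have : e ^ Nat.card E = 1 := congrArg Subtype.val (pow_card_eq_one' (x := (⟨e, he⟩ : E)) :)
    rw [this, map_one]
  have h3 : p t = 1 := by
    have h4 := congrArg p h1
    rw [map_pow, hle, map_mul, h, map_one, (Commute.map (mem_center_iff.1 D.cent e : Commute e t) p).mul_pow, h2,
      one_mul, pow_succ, pow_mul, pow_two, hpt, one_pow, one_mul] at h4
    exact h4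
  exact ne_one_of_order_two D.two (TwoElt.eq_one_of_odd Cfsg.Lib.ZStarApps.odd_card_pPrimeCore
    (TwoElt.of_order_two D.two) ((QuotientGroup.eq_one_iff t).1 h3))

/-- odd subgroups of the stabilizer normalized by `S` and by the centralizer of `z` -/
theorem Amb.le_core (D : Amb H t z) (S : Sylow 2 X) (hSH : (S : Subgroup X) ≤ H) {x : X}
    (hx : orderOf x = 2) (hxz : Commute x z)
    (hxne : x ≠ t ∧ x ≠ z ∧ x ≠ z * t) {E : Subgroup X} (hEH : E ≤ H) (hE : Odd (Nat.card E))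
    (hES : (S : Subgroup X) ≤ normalizer (E : Set X))
    (hEz : centralizer ({z} : Set X) ≤ normalizer (E : Set X)) : E ≤ Cfsg.pPrimeCore 2 X := by
  have hcomm := D.comm_core S hSH hx hxz hxne hEH hE hES
  set L := invGen (⊤ : Subgroup X)
  set p := QuotientGroup.mk' (Cfsg.pPrimeCore 2 X) with hp
  -- `E` times the core is normal
  set O := Cfsg.pPrimeCore 2 X
  haveI hn : (O ⊔ E).Normal := by
    refine ⟨fun a ha b => ?_⟩
    obtain ⟨o, ho, e, he, rfl⟩ := mem_sup_of_normal_left.1 ha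
    obtain ⟨l, hl, c, hc, rfl⟩ := D.exists_centralizing b
    rw [show l * c * (o * e) * (l * c)⁻¹ = (l * c * o * (l * c)⁻¹) * (l * (c * e * c⁻¹) * l⁻¹) by group]
    refine mul_mem (mem_sup_left (Normal.conj_mem inferInstance o ho _)) ?_
    have he' : c * e * c⁻¹ ∈ E := (mem_normalizer_iff.1 (hEz hc) e).1 he
    obtain ⟨o', ho', h⟩ : ∃ o' ∈ O, l * (c * e * c⁻¹) * l⁻¹ = o' * (c * e * c⁻¹) := by
      refine ⟨l * (c * e * c⁻¹) * l⁻¹ * (c * e * c⁻¹)⁻¹, (QuotientGroup.eq_one_iff _).1 ?_, by group⟩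
      show p _ = 1
      rw [map_mul, map_inv, hcomm l hl _ he', mul_inv_cancel]
    rw [h]
    exact mul_mem_sup ho' he'
  refine le_trans le_sup_right (Cfsg.Lib.Components.le_pPrimeCore (N := O ⊔ E) (Nat.coprime_two_right.2 ?_))
  exact (Cfsg.Lib.ZStarApps.odd_card_pPrimeCore.mul hE).of_dvd_nat
    (Cfsg.Lib.Components.card_sup_dvd_mul O E)

end Cfsg.Lib.TwoCore
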