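import Cfsg.Agent.TwoCore.Spec
import Cfsg.Agent.TwoCore.Local.OddLayer
import Cfsg.Agent.Coprime.Generation

/-!
Case I of the proper two-generated core: a second central involution (`notes/two_gen_core_v3.md`).
-/

set_option autoImplicit false
set_option linter.unusedSectionVars false
set_option linter.style.haveILetI false

namespace Cfsg.Lib.TwoCore

open Subgroup Cfsg.Lib.InvolCalc Cfsg.Lib.Misc.FourConnected Cfsg.Lib.BenderSE.FourConn

universe u

variable {G : Type u} [Group G] [Finite G] {M : Subgroup G} {S : Sylow 2 G} {t z : G}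

theorem Central.le_centralizer (ht : Central S t) : (S : Subgroup G) ≤ centralizer ({t} : Set G) :=
  fun s hs => mem_centralizer_singleton_iff.2 (ht.2.2 s hs).eq

/-- a four-group of `M` through `t`, moved in `M` -/
theorem Setup.mem_of_pair (h : Setup M S) {i g : G} (hi : orderOf i = 2) (ht : orderOf t = 2) (hit : i ≠ t)
    (hc : Commute i t) (hiM : i ∈ M) (htM : t ∈ M) (hgi : g⁻¹ * i * g ∈ M) (hgt : g⁻¹ * t * g ∈ M) : g ∈ M := by
  obtain ⟨V, hV, hiV, htV, hle⟩ := exists_klein (sq_of_order_two hi) (sq_of_order_two ht) (ne_one_of_order_two hi)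
    (ne_one_of_order_two ht) hit hc.eq
  refine inv_mem_iff.1 (h.fuse V hV (hle M hiM htM) g⁻¹ ?_)
  rw [map_le_iff_le_comap]
  refine hle _ (mem_comap.2 ?_) (mem_comap.2 ?_)
  · show g⁻¹ * i * g⁻¹⁻¹ ∈ M
    rwa [inv_inv]
  · show g⁻¹ * t * g⁻¹⁻¹ ∈ M
    rwa [inv_inv]

theorem Setup.amb (h : Setup M S) (ht : Central S t) (hbad : ¬ centralizer ({t} : Set G) ≤ M)
    (hz : Central S z) (hne : z ≠ t) :
    Amb (M.subgroupOf (centralizer ({t} : Set G))) ⟨t, ht.le_centralizer ht.1⟩ ⟨z, ht.le_centralizer hz.1⟩ := by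
  refine ⟨by rw [Subgroup.orderOf_mk, ht.2.1], mem_center_iff.2 fun y =>
    Subtype.ext (mem_centralizer_singleton_iff.1 y.2), fun e => hbad (subgroupOf_eq_top.1 e),
    fun i hi hit hiH g hg => ?_, ⟨S.subtype ht.le_centralizer, fun x hx => h.le hx, hz.1,
      fun s hs => Subtype.ext (hz.2.2 s hs)⟩, by rw [Subgroup.orderOf_mk, hz.2.1],
    fun e => hne (congrArg Subtype.val e)⟩
  refine h.mem_of_pair (t := t) (by rw [Subgroup.orderOf_coe, hi]) ht.2.1 (fun e => hit (Subtype.ext e))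
    (mem_centralizer_singleton_iff.1 i.2) hiH (h.le ht.1) hg ?_
  show (g : G)⁻¹ * t * (g : G) ∈ M
  rw [mul_assoc, ← mem_centralizer_singleton_iff.1 g.2, inv_mul_cancel_left]
  exact h.le ht.1

/-- a third kind of involution in the Sylow subgroup -/
theorem Setup.exists_third (h : Setup M S) (ht : Central S t) (hz : Central S z) :
    ∃ x ∈ (S : Subgroup G), orderOf x = 2 ∧ x ≠ t ∧ x ≠ z ∧ x ≠ z * t := by
  classical
  obtain ⟨E, hES, hE, hE8⟩ := exists_eight S h.rank
  haveI : Fintype E := Fintype.ofFinite E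
  by_contra hcon
  push Not at hcon
  have hsub : (Finset.univ.image ((↑) : E → G)) ⊆ ({1, t, z, z * t} : Finset G) := by
    intro x hx
    obtain ⟨e, -, rfl⟩ := Finset.mem_image.1 hx
    simp only [Finset.mem_insert, Finset.mem_singleton]
    by_cases h1 : (e : G) = 1
    · exact Or.inl h1
    have h2 : orderOf (e : G) = 2 := order_two_of_mul_self (by rw [← pow_two]; exact hE.2 e e.2) h1
    by_cases h3 : (e : G) = t
    · exact Or.inr (Or.inl h3)
    by_cases h4 : (e : G) = z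
    · exact Or.inr (Or.inr (Or.inl h4))
    exact Or.inr (Or.inr (Or.inr (hcon e (hES e.2) h2 h3 h4)))
  have h1 := Finset.card_le_card hsub
  rw [Finset.card_image_of_injective _ Subtype.val_injective, Finset.card_univ, ← Nat.card_eq_fintype_card] at h1
  exact absurd (hE8.trans (h1.trans Finset.card_le_four)) (by norm_num)

theorem caseIFourSpec : CaseIFourSpec.{u} := by
  intro G _ _ M S h t ht hbad z hz hne
  have D := h.amb ht hbad hz hne
  obtain ⟨x, hxS, hx2, hxt, hxz, hxzt⟩ := h.exists_third ht hz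
  have hzt : Central S (z * t) := ⟨mul_mem hz.1 ht.1, order_two_of_mul_self (by
      rw [(hz.2.2 t ht.1).mul_mul_mul_comm, sq_of_order_two hz.2.1, sq_of_order_two ht.2.1, one_mul])
      (fun e => hne ((eq_inv_of_mul_eq_one_left e).trans (inv_of_order_two ht.2.1))),
    fun s hs => (hz.2.2 s hs).mul_right (ht.2.2 s hs)⟩
  have hmem : ∀ {y : G}, y ∈ (S : Subgroup G) → y ∈ centralizer ({t} : Set G) := fun hy => ht.le_centralizer hy
  -- classes
  have hclass : ∀ y ∈ (S : Subgroup G), orderOf y = 2 → y ≠ t →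
      ∃ g ∈ centralizer ({t} : Set G), g * z * g⁻¹ = y ∨ g * (z * t) * g⁻¹ = y := by
    intro y hy hy2 hyt
    obtain ⟨g, -, hg⟩ := D.class_two (y := ⟨y, hmem hy⟩) (by rw [Subgroup.orderOf_mk, hy2])
      (fun e => hyt (congrArg Subtype.val e))
    exact ⟨g, g.2, hg.imp (fun e => congrArg Subtype.val e) fun e => congrArg Subtype.val e⟩
  have htz : t * z = z * t := (hz.2.2 t ht.1).eq
  have hflip : ∀ {g y a : G}, g ∈ centralizer ({t} : Set G) → g * a * g⁻¹ = y → g * (a * t) * g⁻¹ = y * t := by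
    intro g y a hg e
    rw [show g * (a * t) * g⁻¹ = g * a * (t * g⁻¹) by group,
      show t * g⁻¹ = g⁻¹ * t from ((show Commute g t from mem_centralizer_singleton_iff.1 hg).inv_left).eq.symm,
      ← mul_assoc, e]
  -- normalize the choice
  obtain ⟨b, hbS, hb2, hbt, hbz, hbzt, k, hk, hkb⟩ : ∃ b ∈ (S : Subgroup G), orderOf b = 2 ∧ b ≠ t ∧ b ≠ z ∧
      b ≠ z * t ∧ ∃ k ∈ centralizer ({t} : Set G), k * z * k⁻¹ = b := by
    obtain ⟨g, hg, e | e⟩ := hclass x hxS hx2 hxt
    · exact ⟨x, hxS, hx2, hxt, hxz, hxzt, g, hg, e⟩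
    · have hb1 : g * z * g⁻¹ = x * t := by
        have h1 := hflip hg e
        rwa [mul_assoc z, sq_of_order_two ht.2.1, mul_one] at h1
      refine ⟨x * t, mul_mem hxS ht.1, by rw [← hb1, order_conj_two hz.2.1], fun e1 => ?_, fun e1 => hxzt ?_,
        fun e1 => hxz (mul_right_cancel e1), g, hg, hb1⟩
      · exact ne_one_of_order_two hx2 (mul_eq_right.1 e1)
      · rw [← e1, mul_assoc, sq_of_order_two ht.2.1, mul_one]
  have hzb : Commute z b := (hz.2.2 b hbS).symm
  have hzb2 : orderOf (z * b) = 2 := Cfsg.Lib.BenderSE.CritDep.order_two_mul hz.2.1 hb2 hzb hbz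
  have hzbt : z * b ≠ t := fun e => hbzt (by rw [← e, ← mul_assoc, sq_of_order_two hz.2.1, one_mul])
  obtain ⟨g, hg, e | e⟩ := hclass (z * b) (mul_mem hz.1 hbS) hzb2 hzbt
  · exact ⟨z, b, hz, hbS, hb2, hzb, hbz.symm, isConj_iff.2 ⟨k, hkb⟩, isConj_iff.2 ⟨g, e⟩⟩
  · refine ⟨z * t, b * t, hzt, mul_mem hbS ht.1, ?_, (hzt.2.2 _ (mul_mem hbS ht.1)).symm,
      fun e1 => hbz (mul_right_cancel e1).symm, isConj_iff.2 ⟨k, hflip hk hkb⟩, isConj_iff.2 ⟨g, ?_⟩⟩
    · rw [← hflip hk hkb, order_conj_two hzt.2.1]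
    · rw [e, (show Commute t b from (ht.2.2 b hbS).symm).mul_mul_mul_comm, sq_of_order_two ht.2.1, mul_one]

/-- an odd subgroup of the centralizer of a central involution normalized by `S` lies in `M` -/
theorem Setup.odd_le (h : Setup M S) (ht : Central S t) (hz : Central S z) (hne : z ≠ t) {E : Subgroup G}
    (hEX : E ≤ centralizer ({t} : Set G)) (hE : Odd (Nat.card E))
    (hSE : (S : Subgroup G) ≤ normalizer (E : Set G)) : E ≤ M := by
  haveI : Fact (Nat.Prime 2) := ⟨Nat.prime_two⟩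
  obtain ⟨x, hxS, hx2, hxt, hxz, hxzt⟩ := h.exists_third ht hz
  have hc : Commute z x := (hz.2.2 x hxS).symm
  obtain ⟨V, hV, hzV, hxV, hle⟩ := exists_klein (sq_of_order_two hz.2.1) (sq_of_order_two hx2)
    (ne_one_of_order_two hz.2.1) (ne_one_of_order_two hx2) hxz.symm hc.eq
  haveI := hV
  have hVS : V ≤ (S : Subgroup G) := hle _ hz.1 hxS
  have htV : t ∉ V := by
    intro htV
    have hp : (z * x) * (z * x) = 1 := by
      rw [hc.symm.mul_mul_mul_comm, sq_of_order_two hz.2.1, sq_of_order_two hx2, one_mul]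
    have hpow : ∀ i : ℤ, (z * x) ^ i = 1 ∨ (z * x) ^ i = z * x := by
      intro i
      rcases Int.even_or_odd i with ⟨j, rfl⟩ | ⟨j, rfl⟩
      · exact Or.inl (by rw [← two_mul, zpow_mul, zpow_two, hp, one_zpow])
      · exact Or.inr (by rw [zpow_add, zpow_mul, zpow_two, hp, one_zpow, zpow_one, one_mul])
    rcases mem_closure_pair hz.2.1 hx2 (hle (Subgroup.closure {z, x}) (subset_closure (by simp))
      (subset_closure (by simp)) htV) with ⟨i, hi⟩ | ⟨i, hi⟩ <;> rcases hpow i with e | e <;> rw [e] at hi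
    · exact ne_one_of_order_two ht.2.1 hi
    · exact hxzt (by rw [hi, ← mul_assoc, sq_of_order_two hz.2.1, one_mul])
    · rw [mul_one] at hi; exact hne hi.symm
    · rw [← mul_assoc, sq_of_order_two hz.2.1, one_mul] at hi; exact hxt hi.symm
  -- `E` lies in `M`
  have hcy : ¬ IsCyclic V := IsKleinFour.not_isCyclic
  haveI : IsMulCommutative V := ⟨⟨fun a b => Subtype.ext (comm_of_klein _ a.2 _ b.2)⟩⟩
  rw [← Cfsg.Lib.Coprime.centralizerJoin_eq hcy (hVS.trans hSE) (by
    rw [card_klein hV, show (4 : ℕ) = 2 ^ 2 by norm_num]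
    exact (Nat.coprime_two_left.2 hE).pow_left 2)]
  refine iSup₂_le fun a ha => fun e he => ?_
  obtain ⟨heE, hea⟩ := mem_inf.1 he
  have haS := hVS ha.1
  refine h.mem_of_pair (t := t) (i := a) ?_ ht.2.1 (fun e1 => htV (e1 ▸ ha.1)) (ht.2.2 a haS) (h.le haS)
    (h.le ht.1) ?_ ?_
  · exact order_two_of_mul_self (sq_of_klein ha.1) ha.2
  · rw [mul_assoc, ← mem_centralizer_singleton_iff.1 hea, inv_mul_cancel_left]
    exact h.le haS
  · rw [mul_assoc, ← mem_centralizer_singleton_iff.1 (hEX heE), inv_mul_cancel_left]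
    exact h.le ht.1

theorem caseIOddSpec : CaseIOddSpec.{u} := by
  intro G _ _ M S h t ht hbad z hz hne E hEX hE hOE hSE hzE
  haveI : Fact (Nat.Prime 2) := ⟨Nat.prime_two⟩
  have D := h.amb ht hbad hz hne
  obtain ⟨x, hxS, hx2, hxt, hxz, hxzt⟩ := h.exists_third ht hz
  have hc : Commute z x := (hz.2.2 x hxS).symm
  have hEM := h.odd_le ht hz hne hEX hE hSE
  set X := centralizer ({t} : Set G)
  have key := D.le_core (S.subtype ht.le_centralizer) (fun a ha => h.le ha) (x := ⟨x, ht.le_centralizer hxS⟩)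
    (by rw [Subgroup.orderOf_mk, hx2]) (Subtype.ext hc.eq.symm)
    ⟨fun e => hxt (congrArg Subtype.val e), fun e => hxz (congrArg Subtype.val e),
      fun e => hxzt (congrArg Subtype.val e)⟩ (E := E.subgroupOf X) (fun a ha => hEM ha)
    (hE.of_dvd_nat (by rw [Nat.card_congr (subgroupOfEquivOfLe hEX).toEquiv]))
    (fun a ha => Cfsg.Lib.ZStarApps.mem_normalizer_of_maps fun b hb =>
      (mem_normalizer_iff.1 (hSE ha) _).1 hb)
    (fun a ha => Cfsg.Lib.ZStarApps.mem_normalizer_of_maps fun b hb =>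
      (mem_normalizer_iff.1 (hzE (mem_inf.2 ⟨a.2, mem_centralizer_singleton_iff.2
        (congrArg Subtype.val (mem_centralizer_singleton_iff.1 ha))⟩)) _).1 hb)
  intro e he
  exact ⟨⟨e, hEX he⟩, key (show (⟨e, hEX he⟩ : X) ∈ E.subgroupOf X from he), rfl⟩

/-- a second central involution centralizes, modulo the core of a bad centralizer, the odd subgroups normalized
by `S` -/
theorem Setup.comm_mem_core (h : Setup M S) (hz : Central S z) (hbad : ¬ centralizer ({z} : Set G) ≤ M)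
    (ht : Central S t) (hne : t ≠ z) {E : Subgroup G} (hEX : E ≤ centralizer ({z} : Set G))
    (hE : Odd (Nat.card E)) (hSE : (S : Subgroup G) ≤ normalizer (E : Set G)) {e : G} (he : e ∈ E) :
    e * t * e⁻¹ * t⁻¹ ∈ Cfsg.centralizerPPrimeCore 2 z := by
  haveI : Fact (Nat.Prime 2) := ⟨Nat.prime_two⟩
  have D := h.amb hz hbad ht hne
  obtain ⟨x, hxS, hx2, hxz, hxt, hxtz⟩ := h.exists_third hz ht
  have hEM := h.odd_le hz ht hne hEX hE hSE
  set X := centralizer ({z} : Set G)
  set a : X := ⟨e, hEX he⟩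
  set b : X := ⟨t, hz.le_centralizer ht.1⟩
  have key := D.comm_core (S.subtype hz.le_centralizer) (fun a ha => h.le ha)
    (x := ⟨x, hz.le_centralizer hxS⟩) (by rw [Subgroup.orderOf_mk, hx2]) (Subtype.ext (ht.2.2 x hxS).eq)
    ⟨fun e => hxz (congrArg Subtype.val e), fun e => hxt (congrArg Subtype.val e),
      fun e => hxtz (congrArg Subtype.val e)⟩ (E := E.subgroupOf X) (fun a ha => hEM ha)
    (hE.of_dvd_nat (by rw [Nat.card_congr (subgroupOfEquivOfLe hEX).toEquiv]))
    (fun a ha => Cfsg.Lib.ZStarApps.mem_normalizer_of_maps fun c hc =>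
      (mem_normalizer_iff.1 (hSE ha) _).1 hc)
    b (mem_invGen (mem_top b) (by rw [Subgroup.orderOf_mk, ht.2.1])) a he
  have h1 : a * b * a⁻¹ * b⁻¹ ∈ Cfsg.pPrimeCore 2 X := by
    refine (QuotientGroup.eq_one_iff _).1 ?_
    show QuotientGroup.mk' (Cfsg.pPrimeCore 2 X) (a * b * a⁻¹ * b⁻¹) = 1
    rw [show a * b * a⁻¹ * b⁻¹ = a * (b * a * b⁻¹)⁻¹ by group, map_mul, map_inv, key, mul_inv_cancel]
  exact ⟨_, h1, rfl⟩

end Cfsg.Lib.TwoCore
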