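import Cfsg.Agent.TwoCore.Local.CaseI

/-!
The criterion of case II of the proper two-generated core: an involution `u` with `C(u) ≰ M` is not in the
subgroup generated by the conjugates of a good central involution which commute with it
(`notes/two_gen_core_v3.md`).
-/

set_option autoImplicit false
set_option linter.unusedSectionVars false
set_option linter.style.haveILetI false

namespace Cfsg.Lib.TwoCore

open Subgroup Cfsg.Lib.InvolCalc Cfsg.Lib.Misc.FourConnected Cfsg.Lib.BenderSE.FourConn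

universe u

variable {G : Type u} [Group G] [Finite G] {M : Subgroup G} {S : Sylow 2 G} {z u : G}

/-- every involution of `M` commutes with another one in `M` -/
theorem Setup.exists_partner (h : Setup M S) (hz : Central S z) {i : G} (hi : orderOf i = 2) (hiM : i ∈ M) :
    ∃ j ∈ M, orderOf j = 2 ∧ j ≠ i ∧ Commute i j := by
  obtain ⟨m, hm, hmS⟩ := Cfsg.Lib.ZStarApps.exists_conj_mem_sylow S h.le
    (TwoElt.of_order_two hi).isPGroup (zpowers_le.2 hiM)
  set a := m * i * m⁻¹ with ha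
  have haS : a ∈ (S : Subgroup G) := hmS i (mem_zpowers i)
  obtain ⟨b, hb, hb2, hba, hc⟩ : ∃ b ∈ (S : Subgroup G), orderOf b = 2 ∧ b ≠ a ∧ Commute a b := by
    by_cases he : a = z
    · obtain ⟨x, hx, hx2, hxz, -, -⟩ := h.exists_third hz hz
      exact ⟨x, hx, hx2, he ▸ hxz, he ▸ (hz.2.2 x hx).symm⟩
    · exact ⟨z, hz.1, hz.2.1, fun e => he e.symm, hz.2.2 a haS⟩
  refine ⟨m⁻¹ * b * m, mul_mem (mul_mem (inv_mem hm) (h.le hb)) hm, order_conj_two' hb2 m, fun e => hba ?_, ?_⟩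
  · rw [ha, ← e, conj_conj_inv]
  · have h1 := hc.map (MulAut.conj m⁻¹).toMonoidHom
    simp only [MulEquiv.coe_toMonoidHom, MulAut.conj_apply, inv_inv] at h1
    rwa [ha, show m⁻¹ * (m * i * m⁻¹) * m = i by group] at h1

/-- conjugation of a good involution inside `M` -/
theorem Setup.mem_of_conj (h : Setup M S) (hz : Central S z) {i g : G} (hi : orderOf i = 2) (hiM : i ∈ M)
    (hgood : centralizer ({i} : Set G) ≤ M) (hg : g * i * g⁻¹ ∈ M) : g ∈ M := by
  obtain ⟨j, hj, hj2, hji, hc⟩ := h.exists_partner hz (order_conj_two hi g) hg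
  refine h.mem_of_pair (t := g * i * g⁻¹) hj2 (order_conj_two hi g) hji hc.symm hj hg ?_ ?_
  · refine hgood (mem_centralizer_singleton_iff.2 ?_)
    have h1 := (hc.symm.map (MulAut.conj g⁻¹).toMonoidHom)
    simp only [MulEquiv.coe_toMonoidHom, MulAut.conj_apply, inv_inv] at h1
    rw [show g⁻¹ * (g * i * g⁻¹) * g = i by group] at h1
    exact h1.eq
  · rwa [show g⁻¹ * (g * i * g⁻¹) * g = i by group]

theorem Setup.good_conj (h : Setup M S) (hz : Central S z) {i g : G} (hi : orderOf i = 2) (hiM : i ∈ M)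
    (hgood : centralizer ({i} : Set G) ≤ M) (hg : g * i * g⁻¹ ∈ M) :
    centralizer ({g * i * g⁻¹} : Set G) ≤ M := by
  have hgM := h.mem_of_conj hz hi hiM hgood hg
  intro c hc
  have h1 : g⁻¹ * c * g ∈ M := hgood (mem_centralizer_singleton_iff.2 (by
    have h2 := (show Commute c (g * i * g⁻¹) from mem_centralizer_singleton_iff.1 hc).map
      (MulAut.conj g⁻¹).toMonoidHom
    simp only [MulEquiv.coe_toMonoidHom, MulAut.conj_apply, inv_inv] at h2
    rw [show g⁻¹ * (g * i * g⁻¹) * g = i by group] at h2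
    exact h2.eq))
  rw [← conj_conj_inv g c]
  exact mul_mem (mul_mem hgM h1) (inv_mem hgM)

/-- the centralizer of a bad involution of `M`, with a good involution central in a Sylow subgroup -/
theorem Setup.local_amb (h : Setup M S) (hz : Central S z) (hzM : centralizer ({z} : Set G) ≤ M)
    (hu : orderOf u = 2) (huM : u ∈ M) (hbad : ¬ centralizer ({u} : Set G) ≤ M) :
    ∃ z0 : G, z0 ∈ M ∧ orderOf z0 = 2 ∧ z0 ≠ u ∧ centralizer ({z0} : Set G) ≤ M ∧
      ∃ hzX : z0 ∈ centralizer ({u} : Set G), Amb (M.subgroupOf (centralizer ({u} : Set G)))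
        ⟨u, mem_centralizer_singleton_iff.2 rfl⟩ ⟨z0, hzX⟩ := by
  haveI : Fact (Nat.Prime 2) := ⟨Nat.prime_two⟩
  set X := centralizer ({u} : Set G)
  set u0 : X := ⟨u, mem_centralizer_singleton_iff.2 rfl⟩
  obtain ⟨P⟩ := (inferInstance : Nonempty (Sylow 2 ↥(M.subgroupOf X)))
  set T := (P : Subgroup ↥(M.subgroupOf X)).map (M.subgroupOf X).subtype with hT
  have hTp : IsPGroup 2 T := P.2.map _
  have hTle : T ≤ M.subgroupOf X := map_subtype_le _
  obtain ⟨m, hm, hmS⟩ := Cfsg.Lib.ZStarApps.exists_conj_mem_sylow S h.le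
    (hTp.map X.subtype) (by rintro _ ⟨x, hx, rfl⟩; exact hTle hx)
  have huT : u ∈ T.map X.subtype := by
    refine ⟨u0, ⟨⟨u0, huM⟩, ?_, rfl⟩, rfl⟩
    exact mem_sylow_of_commute P ⟨1, Subtype.ext (Subtype.ext (by
        rw [pow_one, ← hu]; exact pow_orderOf_eq_one u))⟩
      fun s _ => Subtype.ext (Subtype.ext (mem_centralizer_singleton_iff.1 (s : X).2))
  set z0 := m⁻¹ * z * m with hz0
  have hzT : ∀ x ∈ T, Commute ((x : X) : G) z0 := fun x hx => by
    have h1 := (hz.2.2 _ (hmS _ (mem_map_of_mem _ hx))).map (MulAut.conj m⁻¹).toMonoidHom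
    simp only [MulEquiv.coe_toMonoidHom, MulAut.conj_apply, inv_inv] at h1
    rwa [show m⁻¹ * (m * (X.subtype x) * m⁻¹) * m = X.subtype x by group] at h1
  have hz02 : orderOf z0 = 2 := order_conj_two' hz.2.1 m
  have hz0M : z0 ∈ M := mul_mem (mul_mem (inv_mem hm) (h.le hz.1)) hm
  have hgood : centralizer ({z0} : Set G) ≤ M := by
    rw [hz0, show m⁻¹ * z * m = m⁻¹ * z * m⁻¹⁻¹ by rw [inv_inv]]
    exact h.good_conj hz hz.2.1 (h.le hz.1) hzM (by rwa [inv_inv])
  have hzu : Commute u z0 := by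
    obtain ⟨x, hx, e⟩ := huT
    rw [← e]
    exact hzT x hx
  have hzX : z0 ∈ X := mem_centralizer_singleton_iff.2 hzu.eq.symm
  have hne : z0 ≠ u := fun e => hbad (show centralizer ({u} : Set G) ≤ M from e ▸ hgood)
  have hz0T : (⟨z0, hzX⟩ : X) ∈ T :=
    ⟨⟨⟨z0, hzX⟩, hz0M⟩, mem_sylow_of_commute P ⟨1, Subtype.ext (Subtype.ext (by
        rw [pow_one, ← hz02]; exact pow_orderOf_eq_one z0))⟩
      (fun s hs => Subtype.ext (Subtype.ext (hzT _ ⟨s, hs, rfl⟩).eq)), rfl⟩
  have hmax : ∀ Y : Subgroup X, IsPGroup 2 Y → T ≤ Y → Y ≤ M.subgroupOf X → Y = T := by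
    intro Y hY hTY hYM
    have h1 := P.3 (hY.comap_subtype (K := M.subgroupOf X)) (fun a ha => hTY ⟨a, ha, rfl⟩)
    refine le_antisymm (fun y hy => ⟨⟨y, hYM hy⟩, ?_, rfl⟩) hTY
    rw [SetLike.mem_coe, ← h1]
    exact hy
  have hN : normalizer (T : Set X) ≤ M.subgroupOf X := fun n hn => by
    have h1 : n * ⟨z0, hzX⟩ * n⁻¹ ∈ T := (mem_normalizer_iff.1 hn _).1 hz0T
    exact h.mem_of_conj hz hz02 hz0M hgood (hTle h1)
  obtain ⟨Q, hQ⟩ := Cfsg.Lib.StrongEmb.sylow_of_normalizer_le (p := 2) hTp (M.subgroupOf X) hTle hmax hN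
  refine ⟨z0, hz0M, hz02, hne, hgood, hzX, by rw [Subgroup.orderOf_mk, hu], mem_center_iff.2 fun y =>
    Subtype.ext (mem_centralizer_singleton_iff.1 y.2), fun e => hbad (subgroupOf_eq_top.1 e),
    fun i hi hiu hiM g hg => ?_, ⟨Q, hQ.le.trans hTle, hQ.ge hz0T, fun s hs => Subtype.ext (hzT s (hQ.le hs)).eq⟩,
    by rw [Subgroup.orderOf_mk, hz02], fun e => hne (congrArg Subtype.val e)⟩
  refine h.mem_of_pair (t := u) (by rw [Subgroup.orderOf_coe, hi]) hu (fun e => hiu (Subtype.ext e))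
    (mem_centralizer_singleton_iff.1 i.2) hiM huM hg ?_
  show (g : G)⁻¹ * u * (g : G) ∈ M
  rw [mul_assoc, ← mem_centralizer_singleton_iff.1 g.2, inv_mul_cancel_left]
  exact huM

/-- the two classes of involutions in the centralizer of a bad involution -/
theorem Setup.local_class {z0 : G} {hzX : z0 ∈ centralizer ({u} : Set G)}
    (D : Amb (M.subgroupOf (centralizer ({u} : Set G))) ⟨u, mem_centralizer_singleton_iff.2 rfl⟩ ⟨z0, hzX⟩)
    {y : G} (hy : orderOf y = 2) (hyu : y ≠ u) (hc : Commute y u) :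
    ∃ g : centralizer ({u} : Set G), g ∈ invGen ⊤ ∧
      ((g : G) * z0 * (g : G)⁻¹ = y ∨ (g : G) * (z0 * u) * (g : G)⁻¹ = y) := by
  obtain ⟨g, hg, e⟩ := D.class_two (y := ⟨y, mem_centralizer_singleton_iff.2 hc.eq⟩)
    (by rw [Subgroup.orderOf_mk, hy]) (fun e => hyu (congrArg Subtype.val e))
  exact ⟨g, hg, e.imp (fun e => congrArg Subtype.val e) fun e => congrArg Subtype.val e⟩

theorem conj_mul_central {g a u : G} (hg : Commute g u) : g * (a * u) * g⁻¹ = g * a * g⁻¹ * u := by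
  rw [show g * (a * u) * g⁻¹ = g * a * (u * g⁻¹) by group, hg.inv_left.eq.symm, ← mul_assoc]

theorem order_two_mul_central {a u : G} (ha : orderOf a = 2) (hu : orderOf u = 2) (hne : a ≠ u)
    (hc : Commute a u) : orderOf (a * u) = 2 :=
  Cfsg.Lib.BenderSE.CritDep.order_two_mul ha hu hc hne.symm

/-- the product of two commuting bad involutions is good -/
theorem Setup.good_mul (h : Setup M S) (hz : Central S z) (hzM : centralizer ({z} : Set G) ≤ M)
    (hu : orderOf u = 2) (huM : u ∈ M) (hbad : ¬ centralizer ({u} : Set G) ≤ M) {y : G} (hy : orderOf y = 2)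
    (hyM : y ∈ M) (hc : Commute y u) (hne : y ≠ u) (hybad : ¬ centralizer ({y} : Set G) ≤ M) :
    centralizer ({y * u} : Set G) ≤ M := by
  obtain ⟨z0, hz0M, hz02, -, hgood, hzX, D⟩ := h.local_amb hz hzM hu huM hbad
  obtain ⟨g, -, e | e⟩ := Setup.local_class D hy hne hc
  · exact absurd (e ▸ h.good_conj hz hz02 hz0M hgood (e.symm ▸ hyM)) hybad
  · have hgu : Commute (g : G) u := mem_centralizer_singleton_iff.1 g.2
    have h1 : y * u = (g : G) * z0 * (g : G)⁻¹ := by
      rw [← e, conj_mul_central hgu, mul_assoc, sq_of_order_two hu, mul_one]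
    rw [h1]
    exact h.good_conj hz hz02 hz0M hgood (h1 ▸ mul_mem hyM huM)

/-- with a third involution, `u` lies outside a subgroup of index two of the involution subgroup -/
theorem Amb.exists_split {X : Type u} [Group X] [Finite X] {H : Subgroup X} {t z : X} (D : Amb H t z) {x : X}
    (hx : orderOf x = 2) (hxz : Commute x z) (hxne : x ≠ t ∧ x ≠ z ∧ x ≠ z * t) :
    ∃ R : Subgroup X, t ∉ R ∧ (∀ y, orderOf y = 2 → y ∈ R ∨ y * t ∈ R) ∧
      ∀ g ∈ invGen (⊤ : Subgroup X), ∀ r ∈ R, g * r * g⁻¹ ∈ R := by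
  set L := invGen (⊤ : Subgroup X)
  have D' := D.genAmb
  set HL := H.subgroupOf L
  set tL : L := ⟨t, mem_invGen (mem_top t) D.two⟩
  set zL : L := ⟨z, mem_invGen (mem_top z) D.ztwo⟩
  set xL : L := ⟨x, mem_invGen (mem_top x) hx⟩
  have hdata := D'.data (fun _ D'' => D''.tight)
  set p := QuotientGroup.mk' (coreOdd HL) with hp
  haveI hn : (HL.normalCore.map p).Normal :=
    Subgroup.Normal.map inferInstance p (QuotientGroup.mk'_surjective _)
  set q := QuotientGroup.mk' (HL.normalCore.map p) with hq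
  have hker : ∀ {a : L}, q (p a) = 1 ↔ a ∈ HL.normalCore := by
    intro a
    refine ⟨fun h => ?_, fun h => (QuotientGroup.eq_one_iff _).2 (mem_map_of_mem _ h)⟩
    obtain ⟨b, hb, e⟩ := (QuotientGroup.eq_one_iff _).1 h
    have h1 : coreOdd HL ≤ HL.normalCore := map_subtype_le _
    have h2 := mul_mem hb (h1 (QuotientGroup.eq.1 e))
    rwa [mul_inv_cancel_left] at h2
  have hord : ∀ {a : L}, orderOf a = 2 → a ≠ tL → orderOf (q (p a)) = 2 := fun {a} ha hat =>
    order_two_of_mul_self (by rw [← map_mul, ← map_mul, sq_of_order_two ha, map_one, map_one])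
      fun e => hat (D'.toAmb.eq_of_mem_core ha (hker.1 e))
  have h2 : Cfsg.Lib.BenderSE.HasCommutingInvolutions ((L ⧸ coreOdd HL) ⧸ HL.normalCore.map p) := by
    have hcm : Commute zL xL := Subtype.ext hxz.eq.symm
    refine ⟨q (p zL), q (p xL), hord D'.ztwo D'.zne,
      hord (by rw [Subgroup.orderOf_mk, hx]) (fun e => hxne.1 (congrArg Subtype.val e)), fun e => ?_,
      ((hcm.map p).map q).eq⟩
    have hzx : orderOf (zL * xL) = 2 := order_two_mul_central D'.ztwo (by rw [Subgroup.orderOf_mk, hx])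
      (fun e => hxne.2.1 (congrArg Subtype.val e).symm) hcm
    have h3 := D'.toAmb.eq_of_mem_core hzx (hker.1 (by
      rw [map_mul, map_mul, e, ← map_mul, ← map_mul,
        show xL * xL = 1 from Subtype.ext (sq_of_order_two hx), map_one, map_one]))
    refine hxne.2.2 ?_
    rw [show t = z * x from (congrArg Subtype.val h3).symm, ← mul_assoc, sq_of_order_two D.ztwo, one_mul]
  obtain ⟨hnot, hidx⟩ := hdata.split h2
  refine ⟨((commutator (L ⧸ coreOdd HL)).comap p).map L.subtype, ?_, fun y hy => ?_, ?_⟩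
  · rintro ⟨a, ha, e⟩
    exact hnot (show p tL ∈ _ from (show a = tL from Subtype.ext e) ▸ ha)
  · refine (hidx (p ⟨y, mem_invGen (mem_top y) hy⟩)).imp (fun h => ⟨_, h, rfl⟩)
      fun h => ⟨⟨y, mem_invGen (mem_top y) hy⟩ * tL, ?_, rfl⟩
    show p (_ * tL) ∈ commutator (L ⧸ coreOdd HL)
    rwa [map_mul]
  · rintro g hg _ ⟨a, ha, rfl⟩
    exact ⟨⟨g, hg⟩ * a * ⟨g, hg⟩⁻¹, Normal.conj_mem inferInstance a ha _, rfl⟩

/-- case II: a bad involution is outside the subgroup generated by the commuting conjugates of a good central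
involution -/
theorem Setup.notMem_gen (h : Setup M S) (hcore : Cfsg.oddCore G = ⊥)
    (hcent : ∀ c : G, orderOf c = 2 → c ∉ center G) (hz : Central S z) (hzM : centralizer ({z} : Set G) ≤ M)
    (hu : orderOf u = 2) (huM : u ∈ M) (hbad : ¬ centralizer ({u} : Set G) ≤ M) :
    u ∉ closure {x | IsConj z x ∧ x * u = u * x} := by
  haveI : Fact (Nat.Prime 2) := ⟨Nat.prime_two⟩
  obtain ⟨z0, hz0M, hz02, hne, hgood, hzX, D⟩ := h.local_amb hz hzM hu huM hbad
  set X := centralizer ({u} : Set G)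
  have hzu : Commute z0 u := mem_centralizer_singleton_iff.1 hzX
  have he2 : orderOf (z0 * u) = 2 := order_two_mul_central hz02 hu hne hzu
  have heM : z0 * u ∈ M := mul_mem hz0M huM
  have hconjbad : ∀ g : G, g * z * g⁻¹ ∈ M → centralizer ({g * z * g⁻¹} : Set G) ≤ M := fun g hg =>
    h.good_conj hz hz.2.1 (h.le hz.1) hzM hg
  by_cases hee : centralizer ({z0 * u} : Set G) ≤ M
  · -- `u` is isolated
    exfalso
    have hiso : Cfsg.IsIsolatedInvolution u := by
      refine ⟨hu, fun g hg => ?_⟩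
      by_contra hgu
      obtain ⟨k, -, e | e⟩ := Setup.local_class D (order_conj_two hu g) hgu hg.symm
      · refine hbad ?_
        have h1 : ((k : G)⁻¹ * g)⁻¹ * z0 * ((k : G)⁻¹ * g)⁻¹⁻¹ = u := by
          calc ((k : G)⁻¹ * g)⁻¹ * z0 * ((k : G)⁻¹ * g)⁻¹⁻¹ = g⁻¹ * ((k : G) * z0 * (k : G)⁻¹) * g := by group
            _ = u := by rw [e]; group
        exact (show centralizer ({u} : Set G) ≤ M from h1 ▸ h.good_conj hz hz02 hz0M hgood (h1.symm ▸ huM))
      · refine hbad ?_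
        have h1 : ((k : G)⁻¹ * g)⁻¹ * (z0 * u) * ((k : G)⁻¹ * g)⁻¹⁻¹ = u := by
          calc ((k : G)⁻¹ * g)⁻¹ * (z0 * u) * ((k : G)⁻¹ * g)⁻¹⁻¹
              = g⁻¹ * ((k : G) * (z0 * u) * (k : G)⁻¹) * g := by group
            _ = u := by rw [e]; group
        exact (show centralizer ({u} : Set G) ≤ M from h1 ▸ h.good_conj hz he2 heM hee (h1.symm ▸ huM))
    refine hcent u hu (mem_center_iff.2 fun g => ?_)
    have h1 := Cfsg.Lib.ZStarApps.zstarProp hiso g
    rw [show Cfsg.pPrimeCore 2 G = ⊥ from hcore, mem_bot, mul_inv_eq_one, mul_inv_eq_iff_eq_mul] at h1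
    exact h1.symm
  -- the generators are conjugate to `z0`
  have hgen : ∀ x : G, IsConj z x → x * u = u * x → ∃ g : X, g ∈ invGen ⊤ ∧ (g : G) * z0 * (g : G)⁻¹ = x := by
    intro x hx hxu
    obtain ⟨c, hc⟩ := isConj_iff.1 hx
    obtain ⟨g, hg, e | e⟩ := Setup.local_class D (hc ▸ order_conj_two hz.2.1 c)
      (fun e => hbad (show centralizer ({u} : Set G) ≤ M from e ▸ hc ▸ hconjbad c (by rw [hc, e]; exact huM))) hxu
    · exact ⟨g, hg, e⟩
    · refine absurd ?_ hee
      have h1 : ((g : G)⁻¹ * c) * z * ((g : G)⁻¹ * c)⁻¹ = z0 * u := by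
        calc ((g : G)⁻¹ * c) * z * ((g : G)⁻¹ * c)⁻¹ = (g : G)⁻¹ * (c * z * c⁻¹) * g := by group
          _ = z0 * u := by rw [hc, ← e]; group
      exact h1 ▸ hconjbad _ (h1.symm ▸ heM)
  intro hmem
  obtain ⟨P, hPH, hzP, hPz⟩ := D.sylow
  by_cases hex : ∃ x ∈ (P : Subgroup X), orderOf x = 2 ∧ x ≠ ⟨u, mem_centralizer_singleton_iff.2 rfl⟩ ∧
      x ≠ ⟨z0, hzX⟩ ∧ x ≠ ⟨z0, hzX⟩ * ⟨u, mem_centralizer_singleton_iff.2 rfl⟩
  · obtain ⟨x, hxP, hx2, hxu, hxz, hxzu⟩ := hex
    obtain ⟨R, huR, hidx, hRn⟩ := D.exists_split hx2 (hPz x hxP) ⟨hxu, hxz, hxzu⟩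
    rcases hidx ⟨z0, hzX⟩ (by rw [Subgroup.orderOf_mk, hz02]) with hzR | hzR
    · refine huR ?_
      have hle : closure {x | IsConj z x ∧ x * u = u * x} ≤ R.map X.subtype := by
        refine (closure_le _).2 fun y hy => ?_
        obtain ⟨g, hg, e⟩ := hgen y hy.1 hy.2
        exact ⟨_, hRn g hg _ hzR, e⟩
      obtain ⟨a, ha, e⟩ := hle hmem
      rwa [show a = ⟨u, mem_centralizer_singleton_iff.2 rfl⟩ from Subtype.ext e] at ha
    · -- `z0 * u` is a bad involution inside `R`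
      exfalso
      set u0 : X := ⟨u, mem_centralizer_singleton_iff.2 rfl⟩
      set z1 : X := ⟨z0, hzX⟩
      have hz1R : z1 ∉ R := fun h1 => huR (by
        have h2 := mul_mem (inv_mem h1) hzR
        rwa [inv_mul_cancel_left] at h2)
      have huu : u0 * u0 = 1 := Subtype.ext (sq_of_order_two hu)
      have hxc : Commute x u0 := mem_center_iff.1 D.cent x
      obtain ⟨w, hwP, hw2, hwu, hwe, hwR⟩ : ∃ w ∈ (P : Subgroup X), orderOf w = 2 ∧ w ≠ u0 ∧ w ≠ z1 * u0 ∧
          w ∈ R := by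
        rcases hidx x hx2 with h1 | h1
        · exact ⟨x, hxP, hx2, hxu, hxzu, h1⟩
        · refine ⟨x * u0, mul_mem hxP (mem_sylow_of_commute P (TwoElt.of_order_two D.two)
            fun s _ => mem_center_iff.1 D.cent s), order_two_mul_central hx2 D.two hxu hxc,
            fun e => ne_one_of_order_two hx2 (mul_eq_right.1 e), fun e => hxz (mul_right_cancel e), h1⟩
      have hbadR : ∀ v : X, orderOf v = 2 → v ≠ u0 → v ∈ R → (v : G) ∈ M →
          ¬ centralizer ({(v : G)} : Set G) ≤ M := by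
        intro v hv hvu hvR hvM hv'
        obtain ⟨g, hg, e | e⟩ := D.class_two hv hvu
        · refine hz1R ?_
          have h1 := hRn _ (inv_mem hg) _ hvR
          rwa [← e, show g⁻¹ * (g * z1 * g⁻¹) * g⁻¹⁻¹ = z1 by group] at h1
        · refine hee ?_
          have h1 : (g : G)⁻¹ * (v : G) * (g : G)⁻¹⁻¹ = z0 * u := by
            rw [← e]
            simp only [Subgroup.coe_mul, Subgroup.coe_inv]
            show _ = ((z1 : X) : G) * (u0 : G)
            group
          exact h1 ▸ h.good_conj hz (by rw [Subgroup.orderOf_coe, hv]) hvM hv' (h1.symm ▸ heM)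
      have hcwe : Commute w (z1 * u0) := (hPz w hwP).mul_right (mem_center_iff.1 D.cent w)
      have hwM : (w : G) ∈ M := hPH hwP
      have hez : orderOf (z1 * u0) = 2 := order_two_mul_central D.ztwo D.two D.zne (mem_center_iff.1 D.cent z1)
      have hwe2 := order_two_mul_central hw2 hez hwe hcwe
      refine hbadR _ hwe2 (fun e => huR (e ▸ mul_mem hwR hzR)) (mul_mem hwR hzR) (mul_mem hwM heM) ?_
      exact h.good_mul hz hzM he2 heM hee (by rw [Subgroup.orderOf_coe, hw2]) hwM (congrArg Subtype.val hcwe.eq)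
        (fun e => hwe (Subtype.ext e)) (hbadR w hw2 hwu hwR hwM)
  · -- `z0` is isolated in the centralizer
    push Not at hex
    have hiso := isolated_of_pair P D.two D.cent D.ztwo D.zne hzP hPz fun x hx hx2 => by
      by_contra hcon
      push Not at hcon
      exact hcon.2.2 (hex x hx hx2 hcon.2.1 hcon.1)
    set p := QuotientGroup.mk' (Cfsg.pPrimeCore 2 X)
    set z1 : X := ⟨z0, hzX⟩
    have hz1 : z1 * z1 = 1 := sq_of_order_two D.ztwo
    have hle : closure {x | IsConj z x ∧ x * u = u * x} ≤ ((zpowers (p z1)).comap p).map X.subtype := by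
      refine (closure_le _).2 fun y hy => ?_
      obtain ⟨g, -, e⟩ := hgen y hy.1 hy.2
      refine ⟨g * z1 * g⁻¹, ?_, e⟩
      show p (g * z1 * g⁻¹) ∈ zpowers (p z1)
      have h1 : p (z1 * g * z1⁻¹ * g⁻¹) = 1 :=
        (QuotientGroup.eq_one_iff _).2 (Cfsg.Lib.ZStarApps.zstarProp hiso g)
      rw [show g * z1 * g⁻¹ = (z1 * g * z1⁻¹ * g⁻¹)⁻¹ * z1 by group, map_mul, map_inv, h1, inv_one, one_mul]
      exact mem_zpowers _
    obtain ⟨a, ⟨i, hi⟩, e⟩ := hle hmem
    rw [show a = ⟨u, mem_centralizer_singleton_iff.2 rfl⟩ from Subtype.ext e] at hi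
    have hi' : p z1 ^ i = p ⟨u, mem_centralizer_singleton_iff.2 rfl⟩ := hi
    set u0 : X := ⟨u, mem_centralizer_singleton_iff.2 rfl⟩
    have hkill : ∀ w : X, p w = 1 → TwoElt w → w = 1 := fun w hw hw2 =>
      TwoElt.eq_one_of_odd Cfsg.Lib.ZStarApps.odd_card_pPrimeCore hw2 ((QuotientGroup.eq_one_iff w).1 hw)
    rcases Int.even_or_odd i with ⟨j, rfl⟩ | ⟨j, rfl⟩
    · rw [← two_mul, zpow_mul, zpow_two, ← map_mul, hz1, map_one, one_zpow] at hi'
      exact ne_one_of_order_two D.two (hkill u0 hi'.symm (TwoElt.of_order_two D.two))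
    · rw [zpow_add, zpow_mul, zpow_two, ← map_mul, hz1, map_one, one_zpow, one_mul, zpow_one] at hi'
      have h1 := order_two_mul_central D.ztwo D.two D.zne (mem_center_iff.1 D.cent z1)
      refine ne_one_of_order_two h1 (hkill _ ?_ (TwoElt.of_order_two h1))
      rw [map_mul, hi', ← map_mul, sq_of_order_two D.two, map_one]

end Cfsg.Lib.TwoCore
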