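import Cfsg.Agent.TwoCore.Local.Basic
import Cfsg.Agent.BenderSE.Dependents.CoverKill
import Cfsg.Agent.BenderSE.Final
import Cfsg.Agent.BenderSE.Dependents.CriterionGeneral

/-!
A group generated by involutions over a central two-subgroup with a single involution `t`, the quotient having a
strongly embedded point stabilizer: the central subgroup is `⟨t⟩` (`notes/two_gen_core_v3.md`).
-/

set_option autoImplicit false
set_option linter.unusedSectionVars false
set_option linter.style.haveILetI false

namespace Cfsg.Lib.TwoCore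

open Subgroup Cfsg.Lib.InvolCalc Cfsg.Lib.StrongEmb Cfsg.Lib.BenderSE
open scoped commutatorElement

universe u

variable {X : Type u} [Group X] [Finite X]

/-- the hypotheses of the central step -/
structure CentralData (H N : Subgroup X) (t z : X) : Prop where
  central : N ≤ center X
  core : H.normalCore = N
  two : IsPGroup 2 N
  tN : t ∈ N
  ttwo : orderOf t = 2
  unique : ∀ x ∈ N, orderOf x = 2 → x = t
  ne : H ≠ ⊤
  gen : closure {x : X | orderOf x = 2} = ⊤
  tight : ∀ g, g ∉ H → ∀ w, TwoElt w → w ∈ H → g⁻¹ * w * g ∈ H → w ∈ N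
  sylow : ∃ S : Sylow 2 X, (S : Subgroup X) ≤ H ∧ z ∈ (S : Subgroup X) ∧ ∀ s ∈ (S : Subgroup X), Commute s z
  ztwo : orderOf z = 2
  zne : z ≠ t

variable {H N : Subgroup X} {t z : X}

theorem CentralData.le_sylow (D : CentralData H N t z) (S : Sylow 2 X) : N ≤ (S : Subgroup X) :=
  le_of_sylow_sup S D.two fun s _ => Cfsg.Lib.ZStarApps.mem_normalizer_of_maps fun a ha => by
    rwa [mem_center_iff.1 (D.central ha) s, mul_inv_cancel_right]

theorem CentralData.z_notMem (D : CentralData H N t z) : z ∉ N := fun h => D.zne (D.unique z h D.ztwo)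

theorem CentralData.eq_of_sq (D : CentralData H N t z) {n : X} (hn : n ∈ N) (h : n * n = 1) : n = 1 ∨ n = t := by
  by_cases h1 : n = 1
  · exact Or.inl h1
  · exact Or.inr (D.unique n hn (order_two_of_mul_self h h1))

section Quotient

variable [N.Normal]

theorem CentralData.mem_map_iff (D : CentralData H N t z) {x : X} :
    QuotientGroup.mk' N x ∈ H.map (QuotientGroup.mk' N) ↔ x ∈ H := by
  refine ⟨?_, fun h => mem_map_of_mem _ h⟩
  rintro ⟨h, hh, he⟩
  have h1 : h⁻¹ * x ∈ N := (QuotientGroup.eq).1 he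
  have h2 := mul_mem hh (H.normalCore_le (D.core.ge h1))
  rwa [mul_inv_cancel_left] at h2

theorem CentralData.map_z (D : CentralData H N t z) : orderOf (QuotientGroup.mk' N z) = 2 :=
  order_two_of_mul_self (by rw [← map_mul, sq_of_order_two D.ztwo, map_one])
    fun h => D.z_notMem ((QuotientGroup.eq_one_iff z).1 h)

theorem CentralData.embedded (D : CentralData H N t z) :
    Cfsg.IsStronglyEmbedded (H.map (QuotientGroup.mk' N)) := by
  refine ⟨fun h => D.ne ?_, ?_, fun g hg => ?_⟩
  · exact (Subgroup.eq_top_iff' H).2 fun x => D.mem_map_iff.1 (h ▸ mem_top _)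
  · obtain ⟨S, hS, hz, -⟩ := D.sylow
    exact even_iff_two_dvd.2 (D.map_z ▸ orderOf_dvd_natCard _ (mem_map_of_mem _ (hS hz)))
  rw [← Nat.not_even_iff_odd]
  intro he
  obtain ⟨v, hv, hv2⟩ := exists_involution_of_even he
  obtain ⟨g, rfl⟩ := QuotientGroup.mk'_surjective N g
  obtain ⟨x, rfl⟩ := QuotientGroup.mk'_surjective N v
  obtain ⟨k, hk, hk2⟩ := exists_two_rep (QuotientGroup.mk' N) x (TwoElt.of_order_two hv2)
  obtain ⟨h1, h2⟩ := mem_inf.1 hv
  rw [StrongEmb.mem_conj_iff, ← hk, ← map_inv, ← map_mul, ← map_mul, D.mem_map_iff] at h2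
  rw [← hk, D.mem_map_iff] at h1
  have := (QuotientGroup.eq_one_iff (N := N) _).2 (D.tight g (fun h => hg (mem_map_of_mem _ h)) _ hk2 h1 h2)
  rw [show QuotientGroup.mk' N x = ((x ^ k : X) : X ⧸ N) from hk.symm, this, orderOf_one] at hv2
  exact absurd hv2 (by norm_num)

theorem CentralData.core_quotient (D : CentralData H N t z) :
    (H.map (QuotientGroup.mk' N)).normalCore = ⊥ := by
  refine (Subgroup.eq_bot_iff_forall _).2 fun y hy => ?_
  obtain ⟨x, rfl⟩ := QuotientGroup.mk'_surjective N y
  refine (QuotientGroup.eq_one_iff x).2 (D.core.le fun g => D.mem_map_iff.1 ?_)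
  rw [map_mul, map_mul, map_inv]
  exact hy _

theorem CentralData.invol_conj (D : CentralData H N t z) {i : X} (hi : orderOf i = 2) (hit : i ≠ t) :
    ∃ g : X, g * z * g⁻¹ * i ∈ N := by
  have hio : orderOf (QuotientGroup.mk' N i) = 2 :=
    order_two_of_mul_self (by rw [← map_mul, sq_of_order_two hi, map_one])
      fun h => hit (D.unique i ((QuotientGroup.eq_one_iff i).1 h) hi)
  obtain ⟨g, hg⟩ := isConj_iff.1 (StrongEmb.all_conj D.embedded D.map_z hio)
  obtain ⟨g, rfl⟩ := QuotientGroup.mk'_surjective N g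
  refine ⟨g, (QuotientGroup.eq_one_iff _).1 ?_⟩
  show QuotientGroup.mk' N (g * z * g⁻¹ * i) = 1
  rw [map_mul, map_mul, map_mul, map_inv, hg, ← map_mul, sq_of_order_two hi, map_one]

/-- without commuting involutions modulo `N`, Glauberman's theorem gives the result -/
theorem CentralData.small (D : CentralData H N t z) (hno : ¬ HasCommutingInvolutions (X ⧸ N)) {n : X}
    (hn : n ∈ N) : n = 1 ∨ n = t := by
  obtain ⟨S, -, hzS, hz⟩ := D.sylow
  have htc := D.central D.tN
  have hiso := isolated_of_pair S D.ttwo htc D.ztwo D.zne hzS hz fun x hx hx2 => ?_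
  · set O := Cfsg.pPrimeCore 2 X with hO
    -- the central elements of order two modulo the core
    let U : Subgroup (X ⧸ O) :=
      { carrier := {u | u ∈ center (X ⧸ O) ∧ u * u = 1}
        one_mem' := ⟨one_mem _, one_mul 1⟩
        mul_mem' := fun {a b} ha hb => ⟨mul_mem ha.1 hb.1, by
          calc a * b * (a * b) = a * (b * a) * b := by group
            _ = a * (a * b) * b := by rw [mem_center_iff.1 ha.1 b]
            _ = a * a * (b * b) := by group
            _ = 1 := by rw [ha.2, hb.2, one_mul]⟩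
        inv_mem' := fun {a} ha => ⟨inv_mem ha.1, by rw [← mul_inv_rev, ha.2, inv_one]⟩ }
    have htU : QuotientGroup.mk' O t ∈ U := ⟨mem_center_iff.2 fun y => by
        obtain ⟨y, rfl⟩ := QuotientGroup.mk'_surjective O y
        rw [← map_mul, mem_center_iff.1 htc y, map_mul],
      by rw [← map_mul, sq_of_order_two D.ttwo, map_one]⟩
    have hzU : ∀ g : X, QuotientGroup.mk' O (g * z * g⁻¹) ∈ U := by
      have hzc : ∀ g : X, QuotientGroup.mk' O (g * z * g⁻¹) = QuotientGroup.mk' O z := by
        intro g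
        symm
        rw [← mul_inv_eq_one, ← map_inv, ← map_mul]
        refine (QuotientGroup.eq_one_iff _).2 ?_
        convert Cfsg.Lib.ZStarApps.zstarProp hiso g using 1
        rw [mul_inv_rev, mul_inv_rev, inv_inv, inv_of_order_two D.ztwo]
        group
      intro g
      refine ⟨mem_center_iff.2 fun y => ?_, ?_⟩
      · obtain ⟨y, rfl⟩ := QuotientGroup.mk'_surjective O y
        have := hzc (y * g)
        rw [show y * g * z * (y * g)⁻¹ = y * (g * z * g⁻¹) * y⁻¹ by group, ← hzc g, map_mul, map_mul,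
          map_inv, mul_inv_eq_iff_eq_mul] at this
        exact this
      · rw [← map_mul, sq_of_order_two (order_conj_two D.ztwo g), map_one]
    have htop : (⊤ : Subgroup X) ≤ U.comap (QuotientGroup.mk' O) := by
      rw [← D.gen, closure_le]
      intro i hi
      by_cases hit : i = t
      · exact hit ▸ htU
      obtain ⟨g, hg⟩ := D.invol_conj hi hit
      have hc : Commute (g * z * g⁻¹) i := by
        have h1 : Commute (g * z * g⁻¹) (g * z * g⁻¹ * i) := mem_center_iff.1 (D.central hg) _
        have h2 := (Commute.refl (g * z * g⁻¹)).inv_right.mul_right h1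
        rwa [inv_mul_cancel_left] at h2
      have hsq : g * z * g⁻¹ * i * (g * z * g⁻¹ * i) = 1 := by
        rw [(hc.symm.mul_mul_mul_comm), sq_of_order_two (order_conj_two D.ztwo g), sq_of_order_two hi, one_mul]
      have hiU : QuotientGroup.mk' O (g * z * g⁻¹ * i) ∈ U := by
        rcases D.eq_of_sq hg hsq with h | h <;> rw [h]
        · rw [map_one]; exact one_mem _
        · exact htU
      have := mul_mem (inv_mem (hzU g)) hiU
      rwa [← map_inv, ← map_mul, inv_mul_cancel_left] at this
    have h2 : QuotientGroup.mk' O (n * n) = 1 := by rw [map_mul]; exact (htop (mem_top n)).2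
    exact D.eq_of_sq hn (TwoElt.eq_one_of_odd Cfsg.Lib.ZStarApps.odd_card_pPrimeCore
      (TwoElt.of_mem D.two (mul_mem hn hn)) ((QuotientGroup.eq_one_iff _).1 h2))
  by_contra hc
  push Not at hc
  obtain ⟨h1, h2, h3⟩ := hc
  have hxo : orderOf (QuotientGroup.mk' N x) = 2 :=
    order_two_of_mul_self (by rw [← map_mul, sq_of_order_two hx2, map_one])
      fun h => h2 (D.unique x ((QuotientGroup.eq_one_iff x).1 h) hx2)
  refine hno ⟨_, _, hxo, D.map_z, fun he => ?_, by rw [← map_mul, (hz x hx).eq, map_mul]⟩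
  have hzx : z * x ∈ N := by
    refine (QuotientGroup.eq_one_iff _).1 ?_
    show QuotientGroup.mk' N (z * x) = 1
    rw [map_mul, he, ← map_mul, sq_of_order_two D.ztwo, map_one]
  rcases D.eq_of_sq hzx (by
    rw [(hz x hx).mul_mul_mul_comm, sq_of_order_two D.ztwo, sq_of_order_two hx2, one_mul]) with h | h
  · exact h1 ((inv_eq_of_mul_eq_one_right h).symm.trans (inv_of_order_two D.ztwo))
  · exact h3 (by rw [← h, ← mul_assoc, sq_of_order_two D.ztwo, one_mul])

end Quotient

/-- with commuting involutions modulo `N`: the derived subgroup has no centre and covers the quotient -/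
theorem CentralData.derived (D : CentralData H N t z) [N.Normal] (h2 : HasCommutingInvolutions (X ⧸ N)) :
    center (commutator X) = ⊥ ∧ ∀ y : X ⧸ N, ∃ r ∈ commutator X, QuotientGroup.mk' N r = y := by
  classical
  haveI : Fact (Nat.Prime 2) := ⟨Nat.prime_two⟩
  set q := QuotientGroup.mk' N with hq
  have hqs : Function.Surjective q := QuotientGroup.mk'_surjective N
  set Hb := H.map q with hHb
  have hse := D.embedded
  have hset : Setting Hb := ⟨hse, D.core_quotient, h2⟩
  obtain ⟨LF, Q, F⟩ := exists_frame regProp hset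
  -- the quotient is simple
  have hLF : LF = ⊤ := by
    rw [eq_top_iff, ← map_top_of_surjective q hqs, ← D.gen, MonoidHom.map_closure, closure_le]
    rintro _ ⟨i, hi, rfl⟩
    by_cases h1 : q i = 1
    · rw [h1]; exact one_mem _
    · exact F.invol _ (order_two_of_mul_self (by rw [← map_mul, sq_of_order_two hi, map_one]) h1)
  subst hLF
  haveI hsimp : IsSimpleGroup (X ⧸ N) :=
    haveI := F.simple
    haveI : Nontrivial (X ⧸ N) :=
      (Subgroup.topEquiv : (⊤ : Subgroup (X ⧸ N)) ≃* X ⧸ N).symm.toEquiv.nontrivial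
    IsSimpleGroup.isSimpleGroup_of_surjective (Subgroup.topEquiv : (⊤ : Subgroup (X ⧸ N)) ≃* X ⧸ N).toMonoidHom
      (MulEquiv.surjective _)
  have hcen : center (X ⧸ N) = ⊥ := by
    have := F.cent
    rwa [coe_top, centralizer_univ] at this
  have hperfq : commutator (X ⧸ N) = ⊤ := by
    rcases (inferInstance : (commutator (X ⧸ N)).Normal).eq_bot_or_eq_top with h | h
    · exfalso
      rw [_root_.commutator_def, commutator_top_left_eq_bot_iff_le_center, hcen, le_bot_iff] at h
      exact bot_ne_top h.symm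
    · exact h
  -- the derived subgroup
  set R := commutator X with hR
  have hsurj : ∀ y : X ⧸ N, ∃ r ∈ R, q r = y := by
    intro y
    have h : R.map q = ⊤ := by
      rw [hR, _root_.commutator_def, map_commutator, map_top_of_surjective q hqs, ← _root_.commutator_def, hperfq]
    exact Subgroup.mem_map.1 (h ▸ mem_top y)
  have hperf : ⁅(⊤ : Subgroup R), (⊤ : Subgroup R)⁆ = ⊤ := by
    refine map_injective R.subtype_injective ?_
    rw [map_commutator, ← MonoidHom.range_eq_map, range_subtype]
    refine le_antisymm (commutator_le_right _ _) ?_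
    conv_lhs => rw [hR, _root_.commutator_def]
    refine commutator_le.2 fun a _ b _ => ?_
    obtain ⟨r, hr, hre⟩ := hsurj (q a)
    obtain ⟨s, hs, hse'⟩ := hsurj (q b)
    have ha : r⁻¹ * a ∈ center X := D.central (QuotientGroup.eq.1 hre)
    have hb : s⁻¹ * b ∈ center X := D.central (QuotientGroup.eq.1 hse')
    have key : ∀ (r c s d : X), c ∈ center X → d ∈ center X → ⁅r * c, s * d⁆ = ⁅r, s⁆ := by
      intro r c s d hc hd
      have hc' := fun y => (mem_center_iff.1 hc y)
      have hd' := fun y => (mem_center_iff.1 hd y)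
      rw [commutatorElement_def, commutatorElement_def, mul_inv_rev, mul_inv_rev]
      calc r * c * (s * d) * (c⁻¹ * r⁻¹) * (d⁻¹ * s⁻¹)
          = r * (c * (s * d)) * c⁻¹ * r⁻¹ * d⁻¹ * s⁻¹ := by group
        _ = r * ((s * d) * c) * c⁻¹ * r⁻¹ * d⁻¹ * s⁻¹ := by rw [hc' (s * d)]
        _ = r * s * (d * r⁻¹) * d⁻¹ * s⁻¹ := by group
        _ = r * s * (r⁻¹ * d) * d⁻¹ * s⁻¹ := by rw [hd' r⁻¹]
        _ = r * s * r⁻¹ * s⁻¹ := by group
    rw [← mul_inv_cancel_left r a, ← mul_inv_cancel_left s b, key r _ s _ ha hb]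
    exact commutator_mem_commutator hr hs
  set f : R →* X ⧸ N := q.comp R.subtype with hf
  have hfs : Function.Surjective f := fun y => by
    obtain ⟨r, hr, hre⟩ := hsurj y
    exact ⟨⟨r, hr⟩, hre⟩
  have hker : f.ker = center R := by
    refine le_antisymm (fun r hr => mem_center_iff.2 fun s => Subtype.ext ?_) fun r hr => ?_
    · exact mem_center_iff.1 (D.central ((QuotientGroup.eq_one_iff (r : X)).1 hr)) s
    · rw [MonoidHom.mem_ker, ← mem_bot, ← hcen]
      refine mem_center_iff.2 fun y => ?_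
      obtain ⟨s, rfl⟩ := hfs y
      rw [← map_mul, mem_center_iff.1 hr s, map_mul]
  have hmk : ∀ {a b : R}, QuotientGroup.mk' (center R) a = QuotientGroup.mk' (center R) b ↔ f a = f b := by
    intro a b
    show (a : R ⧸ center R) = b ↔ _
    rw [QuotientGroup.eq, ← hker, MonoidHom.mem_ker, map_mul, map_inv, inv_mul_eq_one]
  set HX := H.subgroupOf R with hHX
  have hmemHX : ∀ {r : R}, r ∈ HX ↔ f r ∈ Hb := fun {r} => mem_subgroupOf.trans D.mem_map_iff.symm
  -- the Sylow subgroup of the derived subgroup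
  obtain ⟨S, hSH, hzS, hz⟩ := D.sylow
  obtain ⟨P, hP⟩ := Cfsg.Lib.BenderSE.CritDep.exists_sylow_inf S R ((normalizer_eq_top (H := R)).symm ▸ le_top)
  have hQS : Q = (S : Subgroup X).map q := by
    obtain ⟨S0, hS0⟩ := F.sylow
    have h1 : (S : Subgroup X).map q = ((S.mapSurjective hqs : Sylow 2 (X ⧸ N)) : Subgroup (X ⧸ N)) := rfl
    have hn : (S : Subgroup X).map q ≤ normalizer (Q : Set (X ⧸ N)) := (map_mono hSH).trans F.qn
    have h2 := (S.mapSurjective hqs).3 ((S.2.map q).to_sup_of_normal_right' F.q2 hn) le_sup_left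
    refine hS0.symm.trans (S0.3 (S.2.map q) ?_).symm
    rw [hS0]
    intro x hx
    show x ∈ (S : Subgroup X).map q
    rw [h1, ← h2]
    exact mem_sup_right hx
  have hmemP : ∀ {r : R}, r ∈ (P : Subgroup R) ↔ f r ∈ Q := by
    intro r
    rw [hP, mem_subgroupOf, hQS]
    refine ⟨fun h => mem_map_of_mem _ h, ?_⟩
    rintro ⟨s, hs, he⟩
    have h1 : s⁻¹ * (r : X) ∈ N := QuotientGroup.eq.1 he
    simpa using mul_mem hs (D.le_sylow S h1)
  set A : Subgroup R := (P : Subgroup R) ⊓ centralizer ((P : Subgroup R) : Set R) with hA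
  have hHXP : ∀ h ∈ HX, ∀ r ∈ (P : Subgroup R), h * r * h⁻¹ ∈ (P : Subgroup R) := by
    intro h hh r hr
    rw [hmemP, map_mul, map_mul, map_inv]
    exact (mem_normalizer_iff.1 (F.qn (hmemHX.1 hh)) _).1 (hmemP.1 hr)
  have hHXA : HX ≤ normalizer (A : Set R) := fun h hh => Cfsg.Lib.ZStarApps.mem_normalizer_of_maps fun a ha =>
    mem_inf.2 ⟨hHXP h hh a (mem_inf.1 ha).1, mem_centralizer_iff.2 fun r hr => by
      have := mem_centralizer_iff.1 (mem_inf.1 ha).2 _ (hHXP h⁻¹ (inv_mem hh) r hr)
      rw [inv_inv] at this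
      calc r * (h * a * h⁻¹) = h * (h⁻¹ * r * h * a) * h⁻¹ := by group
        _ = h * (a * (h⁻¹ * r * h)) * h⁻¹ := by rw [this]
        _ = h * a * h⁻¹ * r := by group⟩
  letI : CommGroup A :=
    { (inferInstance : Group A) with
      mul_comm := fun a b => Subtype.ext (mem_centralizer_iff.1 (mem_inf.1 b.2).2 a (mem_inf.1 a.2).1) }
  set ψ : HX →* MulAut A := (A.normalizerMonoidHom).comp (inclusion hHXA) with hψ
  have hψv : ∀ (h : HX) (a : A), ((ψ h a : A) : R) = (h : R) * a * (h : R)⁻¹ := fun h a => rfl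
  set K := ψ.range with hK
  haveI : Fintype K := Fintype.ofFinite _
  have hKodd : Odd (Nat.card K) := by
    have h1 : (P : Subgroup R).subgroupOf HX ≤ ψ.ker := by
      intro h hh
      refine MonoidHom.mem_ker.2 (MulEquiv.ext fun a => Subtype.ext ?_)
      rw [hψv, MulAut.one_apply, mem_centralizer_iff.1 (mem_inf.1 a.2).2 _ (mem_subgroupOf.1 hh),
        mul_inv_cancel_right]
    have h2 := index_dvd_of_le h1
    rw [Subgroup.index_ker] at h2
    have h3 : Odd (P : Subgroup R).index := Nat.not_even_iff_odd.1 fun he => P.not_dvd_index he.two_dvd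
    refine h3.of_dvd_nat (h2.trans ?_)
    exact Dvd.intro _ (relIndex_mul_index (show (P : Subgroup R) ≤ HX from fun r hr => hmemHX.2 (F.qle (hmemP.1 hr))))
  set φ : A →* A := MonoidHom.mk' (fun a => ∏ σ : K, (σ : MulAut A) a)
    (fun a b => by simp only [map_mul, Finset.prod_mul_distrib]) with hφ
  have hφi : ∀ (τ : K) (a : A), φ ((τ : MulAut A) a) = φ a := fun τ a =>
    Fintype.prod_equiv (Equiv.mulRight τ) _ _ (fun σ => by simp [Equiv.coe_mulRight, MulAut.mul_apply])
  set R' : Subgroup R := φ.ker.map A.subtype with hR'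
  have hcd : Cfsg.Lib.BenderSE.CritDep.CoverData HX R' := by
    haveI : Nontrivial R := Function.Surjective.nontrivial hfs
    refine ⟨⟨⟨hperf⟩, ?_⟩, ?_, ?_, ?_, ?_, ?_, ?_, ?_⟩
    · haveI : Nontrivial (R ⧸ center R) := by
        refine QuotientGroup.nontrivial_iff.2 fun h => ?_
        obtain ⟨y, hy⟩ := exists_ne (1 : X ⧸ N)
        obtain ⟨r, rfl⟩ := hfs y
        exact hy (MonoidHom.mem_ker.1 (hker ▸ h ▸ mem_top r))
      let e : R ⧸ center R ≃* X ⧸ N :=
        (QuotientGroup.quotientMulEquivOfEq hker.symm).trans (QuotientGroup.quotientKerEquivOfSurjective f hfs)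
      exact IsSimpleGroup.isSimpleGroup_of_surjective e.symm.toMonoidHom e.symm.surjective
    · intro c
      obtain ⟨a, ha⟩ := D.two ⟨(c : X), (QuotientGroup.eq_one_iff _).1 (hker.ge c.2)⟩
      exact ⟨a, Subtype.ext (Subtype.ext (congrArg Subtype.val ha :))⟩
    · set g : R ⧸ center R →* X ⧸ N := QuotientGroup.lift (center R) f hker.ge with hg
      have hgi : Function.Injective g := (injective_iff_map_eq_one g).2 fun y hy => by
        obtain ⟨r, rfl⟩ := QuotientGroup.mk'_surjective (center R) y
        exact (QuotientGroup.eq_one_iff r).2 (hker ▸ MonoidHom.mem_ker.2 hy)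
      have hco : HX.map (QuotientGroup.mk' (center R)) = Hb.comap g := by
        ext y
        obtain ⟨r, rfl⟩ := QuotientGroup.mk'_surjective (center R) y
        rw [mem_comap, show g (QuotientGroup.mk' (center R) r) = f r from rfl]
        refine ⟨?_, fun h => mem_map_of_mem _ (hmemHX.2 h)⟩
        rintro ⟨s, hs, he⟩
        rw [← hmk.1 he]
        exact hmemHX.1 hs
      rw [hco]
      obtain ⟨r, hr⟩ := hfs (q z)
      refine Cfsg.Lib.BenderSE.CritDep.embedded_comap g hgi hse (fun h => D.ne ?_)
        (t := QuotientGroup.mk' (center R) r) ?_ (show f r ∈ Hb from hr ▸ mem_map_of_mem _ (hSH hzS))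
      · refine (Subgroup.eq_top_iff' H).2 fun x => D.mem_map_iff.1 ?_
        obtain ⟨s, hs⟩ := hfs (q x)
        exact hs ▸ (mem_comap.1 (h.ge (mem_top (QuotientGroup.mk' (center R) s))))
      · rw [← orderOf_injective g hgi, show g (QuotientGroup.mk' (center R) r) = f r from rfl, hr]
        exact D.map_z
    · exact fun c hc => hmemHX.2 (by rw [MonoidHom.mem_ker.1 (hker.ge hc)]; exact one_mem _)
    · rintro _ ⟨a, -, rfl⟩
      exact hmemHX.2 (F.qle (hmemP.1 (mem_inf.1 a.2).1))
    · intro h hh
      refine Cfsg.Lib.ZStarApps.mem_normalizer_of_maps ?_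
      rintro _ ⟨a, ha, rfl⟩
      refine ⟨ψ ⟨h, hh⟩ a, MonoidHom.mem_ker.2 ?_, hψv ⟨h, hh⟩ a⟩
      rw [hφi ⟨_, ⟨⟨h, hh⟩, rfl⟩⟩ a]
      exact MonoidHom.mem_ker.1 ha
    · rintro c hc ⟨a, ha, rfl⟩ hcc
      have hfix : ∀ σ : K, (σ : MulAut A) a = a := by
        rintro ⟨_, ⟨h, rfl⟩⟩
        refine Subtype.ext ?_
        have hca : (h : R) * (a : R) = (a : R) * (h : R) := mem_center_iff.1 hc (h : R)
        rw [hψv, hca]
        exact mul_inv_cancel_right _ _
      have h1 : a ^ Nat.card K = 1 := by
        have hk := MonoidHom.mem_ker.1 ha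
        rw [hφ, MonoidHom.mk'_apply, Finset.prod_congr rfl (fun σ _ => hfix σ), Finset.prod_const,
          Finset.card_univ, ← Nat.card_eq_fintype_card] at hk
        exact hk
      have h2 : a * a = 1 := Subtype.ext hcc
      obtain ⟨m, hm⟩ := hKodd
      rw [hm, pow_succ, pow_mul, pow_two, h2, one_pow, one_mul] at h1
      rw [h1, map_one]
    · intro x hx hx2
      set v := f x with hv
      have hv2 : orderOf v = 2 := by
        refine order_two_of_mul_self ?_ fun h => ?_
        · have h1 : x * x ∈ center R := (QuotientGroup.eq_one_iff _).1 (by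
            show QuotientGroup.mk' (center R) (x * x) = 1
            rw [map_mul, sq_of_order_two hx2])
          rw [hv, ← map_mul]
          exact MonoidHom.mem_ker.1 (hker.ge h1)
        · rw [hmk.2 (show f x = f 1 by rw [map_one]; exact h), map_one, orderOf_one] at hx2
          exact absurd hx2 (by norm_num)
      have hvH : v ∈ Hb := hmemHX.1 hx
      -- a lift of the central involution
      obtain ⟨r, hr, hre⟩ := hsurj (q z)
      have hrN : r⁻¹ * z ∈ N := QuotientGroup.eq.1 hre
      have hrS : r ∈ (S : Subgroup X) := by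
        simpa using mul_mem hzS (inv_mem (D.le_sylow S hrN))
      have hlift : ∀ y : X ⧸ N, orderOf y = 2 → y ∈ Hb → ∃ a : A, f a = y := by
        intro y hy hyH
        obtain ⟨g, hg⟩ := isConj_iff.1 (StrongEmb.all_conj hse D.map_z hy)
        obtain ⟨h, rfl⟩ := hfs g
        have hh : h ∈ HX := hmemHX.2 (StrongEmb.conj_eq hse D.map_z (mem_map_of_mem _ (hSH hzS)) (hg ▸ hyH))
        have hrA : (⟨r, hr⟩ : R) ∈ A := by
          refine mem_inf.2 ⟨by rw [hP, mem_subgroupOf]; exact hrS, mem_centralizer_iff.2 fun s hs => Subtype.ext ?_⟩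
          have hsS : (s : X) ∈ (S : Subgroup X) := by
            have hs' := hs
            rw [SetLike.mem_coe, hP, mem_subgroupOf] at hs'
            exact hs'
          have h1 : Commute (s : X) (r⁻¹ * z) := mem_center_iff.1 (D.central hrN) _
          have h2 := ((hz _ hsS).mul_right h1.inv_right)
          rw [mul_inv_rev, inv_inv, ← mul_assoc, mul_inv_cancel, one_mul] at h2
          exact h2
        refine ⟨ψ ⟨h, hh⟩ ⟨_, hrA⟩, ?_⟩
        rw [hψv, map_mul, map_mul, map_inv]
        show f h * q r * (f h)⁻¹ = y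
        rw [hre, hg]
      -- a second involution of the stabilizer
      obtain ⟨w, hw, hwH, hwv⟩ : ∃ w, orderOf w = 2 ∧ w ∈ Hb ∧ w ≠ v := by
        obtain ⟨p, p', hp, hp', hne, hc⟩ := h2
        obtain ⟨g, hg⟩ := StrongEmb.exists_conj_mem hse hp
        have hg' : g * p' * g⁻¹ ∈ Hb := StrongEmb.centralizer_le hse (order_conj_two hp g) hg
          (mem_centralizer_singleton_iff.2 ((show Commute p' p from hc.symm).map (MulAut.conj g).toMonoidHom).eq)
        by_cases h : g * p * g⁻¹ = v
        · exact ⟨_, order_conj_two hp' g, hg', fun h' => hne (mul_left_cancel (mul_right_cancel (h.trans h'.symm)))⟩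
        · exact ⟨_, order_conj_two hp g, hg, h⟩
      have hc : Commute w v := ((F.qinvol w hw hwH).2 v (F.qinvol v hv2 hvH).1)
      have hy : orderOf (w * v) = 2 :=
        Cfsg.Lib.BenderSE.CritDep.order_two_mul hw hv2 hc hwv.symm
      obtain ⟨g, hg⟩ := isConj_iff.1 (StrongEmb.all_conj hse hw hy)
      obtain ⟨h, rfl⟩ := hfs g
      have hh : h ∈ HX := hmemHX.2 (StrongEmb.conj_eq hse hw hwH (hg ▸ mul_mem hwH hvH))
      obtain ⟨a, ha⟩ := hlift w hw hwH
      refine ⟨_, mem_map_of_mem _ (show a⁻¹ * ψ ⟨h, hh⟩ a ∈ φ.ker from MonoidHom.mem_ker.2 ?_), hmk.2 ?_⟩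
      · rw [map_mul, map_inv, hφi ⟨_, ⟨⟨h, hh⟩, rfl⟩⟩ a, inv_mul_cancel]
      · show f ((a⁻¹ * ψ ⟨h, hh⟩ a : A) : R) = f x
        rw [Subgroup.coe_mul, hψv, Subgroup.coe_inv, map_mul, map_mul, map_mul, map_inv, map_inv, ha, hg,
          inv_mul_cancel_left]
  exact ⟨hcd.center_eq_bot regProp, hsurj⟩

omit [Finite X] in
theorem sq_mem_commutator (hgen : closure {x : X | orderOf x = 2} = ⊤) : ∀ x : X, x * x ∈ commutator X := by
  set R := commutator X with hR
  let U : Subgroup (Abelianization X) :=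
    { carrier := {u | u * u = 1}
      one_mem' := one_mul 1
      mul_mem' := fun {a b} (ha : a * a = 1) (hb : b * b = 1) => show a * b * (a * b) = 1 by
        rw [mul_mul_mul_comm, ha, hb, one_mul]
      inv_mem' := fun {a} (ha : a * a = 1) => show a⁻¹ * a⁻¹ = 1 by rw [← mul_inv_rev, ha, inv_one] }
  have htop : (⊤ : Subgroup X) ≤ U.comap Abelianization.of := by
    rw [← hgen, closure_le]
    intro i hi
    show Abelianization.of i * Abelianization.of i = 1
    rw [← map_mul, sq_of_order_two hi, map_one]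
  intro x
  rw [hR, ← Abelianization.ker_of, MonoidHom.mem_ker, map_mul]
  exact htop (mem_top x)

/-- with commuting involutions modulo `N`, the cover step gives the result -/
theorem CentralData.cover (D : CentralData H N t z) [N.Normal] (h2 : HasCommutingInvolutions (X ⧸ N)) {n : X}
    (hn : n ∈ N) : n = 1 ∨ n = t := by
  have hbot := (D.derived h2).1
  refine D.eq_of_sq hn ?_
  have h1 : (⟨n * n, sq_mem_commutator D.gen n⟩ : commutator X) ∈ center (commutator X) :=
    mem_center_iff.2 fun a => Subtype.ext (mem_center_iff.1 (mul_mem (D.central hn) (D.central hn)) a)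
  rw [hbot, mem_bot] at h1
  exact congrArg Subtype.val h1

/-- with commuting involutions modulo `N`, the involution `t` is outside the derived subgroup, of index two -/
theorem CentralData.split (D : CentralData H N t z) [N.Normal] (h2 : HasCommutingInvolutions (X ⧸ N)) :
    t ∉ commutator X ∧ ∀ y : X, y ∈ commutator X ∨ y * t ∈ commutator X := by
  obtain ⟨hbot, hsurj⟩ := D.derived h2
  refine ⟨fun ht => ne_one_of_order_two D.ttwo ?_, fun y => ?_⟩
  · have h1 : (⟨t, ht⟩ : commutator X) ∈ center (commutator X) :=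
      mem_center_iff.2 fun a => Subtype.ext (mem_center_iff.1 (D.central D.tN) a)
    rw [hbot, mem_bot] at h1
    exact congrArg Subtype.val h1
  · obtain ⟨r, hr, he⟩ := hsurj (QuotientGroup.mk' N y)
    rcases D.cover h2 (QuotientGroup.eq.1 he) with h | h
    · exact Or.inl (inv_mul_eq_one.1 h ▸ hr)
    · refine Or.inr ?_
      rw [show y = r * t by rw [← h]; group, mul_assoc, sq_of_order_two D.ttwo, mul_one]
      exact hr

/-- the central subgroup is `⟨t⟩` -/
theorem CentralData.eq_one_or (D : CentralData H N t z) {n : X} (hn : n ∈ N) : n = 1 ∨ n = t := by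
  haveI : N.Normal := D.core ▸ inferInstance
  by_cases h2 : HasCommutingInvolutions (X ⧸ N)
  · exact D.cover h2 hn
  · exact D.small h2 hn

end Cfsg.Lib.TwoCore
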