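import Cfsg.Agent.TwoCore.Local.Central
import Cfsg.Agent.BenderSE.Criterion2.CriterionFinal
import Cfsg.Agent.Components.PComponents

/-!
A group with a central involution `t` in which every other involution fixes a single point of `L / H`: the
subgroup generated by the involutions has its two-elements fixing a single point, up to `⟨t⟩`
(`notes/two_gen_core_v3.md`, by induction through Aschbacher's criterion).
-/

set_option autoImplicit false
set_option linter.unusedSectionVars false
set_option linter.style.haveILetI false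

namespace Cfsg.Lib.TwoCore

open Subgroup Cfsg.Lib.InvolCalc Cfsg.Lib.BenderSE

universe u

/-- a central involution `t`, the other involutions of the stabilizer fixing a single point, a central
involution `z` of a Sylow subgroup of the stabilizer -/
structure Amb {L : Type u} [Group L] (H : Subgroup L) (t z : L) : Prop where
  two : orderOf t = 2
  cent : t ∈ center L
  ne : H ≠ ⊤
  single : ∀ i, orderOf i = 2 → i ≠ t → i ∈ H → ∀ g, g⁻¹ * i * g ∈ H → g ∈ H
  sylow : ∃ S : Sylow 2 L, (S : Subgroup L) ≤ H ∧ z ∈ (S : Subgroup L) ∧ ∀ s ∈ (S : Subgroup L), Commute s z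
  ztwo : orderOf z = 2
  zne : z ≠ t

/-- the involutions generate -/
structure GenAmb {L : Type u} [Group L] (H : Subgroup L) (t z : L) : Prop extends Amb H t z where
  gen : closure {x : L | orderOf x = 2} = ⊤

/-- two-elements other than `1, t` fix a single point -/
def Tight {L : Type u} [Group L] (H : Subgroup L) (t : L) : Prop :=
  ∀ g, g ∉ H → ∀ w, TwoElt w → w ∈ H → g⁻¹ * w * g ∈ H → w = 1 ∨ w = t

variable {L : Type u} [Group L]

/-- the subgroup generated by the involutions of `C` -/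
def invGen (C : Subgroup L) : Subgroup L := closure {x | x ∈ C ∧ orderOf x = 2}

theorem invGen_le (C : Subgroup L) : invGen C ≤ C := (closure_le _).2 fun _ hx => hx.1

theorem mem_invGen {C : Subgroup L} {x : L} (h : x ∈ C) (h2 : orderOf x = 2) : x ∈ invGen C :=
  subset_closure ⟨h, h2⟩

theorem invGen_conj {C : Subgroup L} {c x : L} (hc : c ∈ C) (hx : x ∈ invGen C) :
    c * x * c⁻¹ ∈ invGen C := by
  have h : invGen C ≤ (invGen C).comap (MulAut.conj c).toMonoidHom := by
    refine (closure_le _).2 fun y hy => mem_comap.2 ?_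
    exact mem_invGen (mul_mem (mul_mem hc hy.1) (inv_mem hc)) (order_conj_two hy.2 c)
  exact h hx

variable [Finite L] {H : Subgroup L} {t z : L}

theorem Amb.tH (D : Amb H t z) : t ∈ H := by
  obtain ⟨S, hS, -, -⟩ := D.sylow
  exact hS (mem_sylow_of_commute S (TwoElt.of_order_two D.two) fun s _ => mem_center_iff.1 D.cent s)

theorem Amb.zH (D : Amb H t z) : z ∈ H := by
  obtain ⟨S, hS, hz, -⟩ := D.sylow
  exact hS hz

theorem Amb.exists_conj_notMem (D : Amb H t z) {i : L} (hi : orderOf i = 2) (hit : i ≠ t) :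
    ∃ g : L, g * i * g⁻¹ ∉ H := by
  by_contra h
  push Not at h
  refine D.ne ((Subgroup.eq_top_iff' H).2 fun g => inv_mem_iff.1 ?_)
  refine D.single i hi hit (by simpa using h 1) g⁻¹ ?_
  rw [inv_inv]
  exact h g

theorem Amb.eq_of_mem_core (D : Amb H t z) {i : L} (hi : orderOf i = 2) (h : i ∈ H.normalCore) : i = t := by
  by_contra hne
  obtain ⟨g, hg⟩ := D.exists_conj_notMem hi hne
  exact hg (h g)

/-- restriction to the subgroup generated by the involutions of `C` -/
theorem Amb.sub (D : Amb H t z) (C : Subgroup L) (htC : t ∈ C) (hC : ¬ C ≤ H) (T : Subgroup L)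
    (hTp : IsPGroup 2 T) (hTle : T ≤ C ⊓ H)
    (hmax : ∀ Y : Subgroup L, IsPGroup 2 Y → Y ≤ C ⊓ H → ∃ c ∈ C ⊓ H, ∀ y ∈ Y, c * y * c⁻¹ ∈ T)
    (z' : L) (hzT : z' ∈ T) (hzc : ∀ s ∈ T, Commute s z') (hz2 : orderOf z' = 2) (hzt : z' ≠ t) :
    GenAmb (H.subgroupOf (invGen C)) ⟨t, mem_invGen htC D.two⟩
      ⟨z', mem_invGen (mem_inf.1 (hTle hzT)).1 hz2⟩ := by
  haveI : Fact (Nat.Prime 2) := ⟨Nat.prime_two⟩
  set L' := invGen C with hL'
  have hzC := (mem_inf.1 (hTle hzT)).1
  refine ⟨⟨by rw [Subgroup.orderOf_mk, D.two], mem_center_iff.2 fun y => Subtype.ext (mem_center_iff.1 D.cent y),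
    fun h => hC fun x hx => ?_, fun i hi hit hiH g hg => ?_, ?_, by rw [Subgroup.orderOf_mk, hz2],
    fun h => hzt (congrArg Subtype.val h)⟩, ?_⟩
  · refine D.single z' hz2 hzt (mem_inf.1 (hTle hzT)).2 x (subgroupOf_eq_top.1 h ?_)
    simpa using invGen_conj (inv_mem hx) (mem_invGen hzC hz2)
  · exact D.single i (by rw [Subgroup.orderOf_coe, hi]) (fun h => hit (Subtype.ext h)) hiH g hg
  · set X := T.subgroupOf L' with hX
    have hXp : IsPGroup 2 X := hTp.comap_subtype
    have hmaxX : ∀ Y : Subgroup L', IsPGroup 2 Y → X ≤ Y → Y ≤ H.subgroupOf L' → Y = X := by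
      intro Y hY hXY hYH
      obtain ⟨c, hc, hcY⟩ := hmax (Y.map L'.subtype) (hY.map _) (by
        rintro _ ⟨y, hy, rfl⟩
        exact mem_inf.2 ⟨invGen_le C y.2, hYH hy⟩)
      refine (eq_of_le_of_card_ge hXY ?_).symm
      refine Nat.card_le_card_of_injective (fun y : Y =>
        (⟨⟨c * ((y : L') : L) * c⁻¹, invGen_conj (mem_inf.1 hc).1 (y : L').2⟩,
          hcY _ (mem_map_of_mem _ y.2)⟩ : X)) fun a b hab => ?_
      exact Subtype.ext (Subtype.ext (mul_left_cancel (mul_right_cancel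
        (congrArg (fun e : X => ((e : L') : L)) hab))))
    have hN : normalizer (X : Set L') ≤ H.subgroupOf L' := fun n hn => by
      have h1 : n⁻¹ * (⟨z', mem_invGen hzC hz2⟩ : L') * n ∈ X :=
        (mem_normalizer_iff''.1 hn _).1 hzT
      exact D.single z' hz2 hzt (mem_inf.1 (hTle hzT)).2 n (mem_inf.1 (hTle h1)).2
    obtain ⟨Q, hQ⟩ := Cfsg.Lib.StrongEmb.sylow_of_normalizer_le (p := 2) hXp (H.subgroupOf L')
      (fun x hx => (mem_inf.1 (hTle hx)).2) hmaxX hN
    refine ⟨Q, ?_, ?_, ?_⟩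
    · rw [hQ]; exact fun x hx => (mem_inf.1 (hTle hx)).2
    · rw [hQ]; exact hzT
    · rw [hQ]; exact fun s hs => Subtype.ext (hzc s hs)
  · have e : {x : L' | orderOf x = 2} = (((↑) : L' → L) ⁻¹' {x | x ∈ C ∧ orderOf x = 2}) := by
      ext x
      exact ⟨fun h => ⟨invGen_le C x.2, by rw [Subgroup.orderOf_coe]; exact h⟩,
        fun h => by rw [Set.mem_ofPred_eq, ← Subgroup.orderOf_coe]; exact h.2⟩
    rw [e]
    exact Subgroup.closure_closure_coe_preimage

section Step

variable (D : GenAmb H t z)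
include D

theorem GenAmb.map_iff {x : L} :
    QuotientGroup.mk' H.normalCore x ∈ H.map (QuotientGroup.mk' H.normalCore) ↔ x ∈ H := by
  refine ⟨?_, fun h => mem_map_of_mem _ h⟩
  rintro ⟨h, hh, he⟩
  have h2 := mul_mem hh (H.normalCore_le (QuotientGroup.eq.1 he))
  rwa [mul_inv_cancel_left] at h2

theorem GenAmb.map_two {i : L} (hi : orderOf i = 2) (hit : i ≠ t) :
    orderOf (QuotientGroup.mk' H.normalCore i) = 2 :=
  order_two_of_mul_self (by rw [← map_mul, sq_of_order_two hi, map_one])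
    fun h => hit (D.toAmb.eq_of_mem_core hi ((QuotientGroup.eq_one_iff i).1 h))

theorem GenAmb.commute_mem {x : L}
    (hc : Commute (QuotientGroup.mk' H.normalCore z) (QuotientGroup.mk' H.normalCore x)) : x ∈ H := by
  refine D.single z D.ztwo D.zne D.toAmb.zH x (D.map_iff.1 ?_)
  rw [map_mul, map_mul, map_inv, mul_assoc, hc.eq, inv_mul_cancel_left]
  exact mem_map_of_mem _ D.toAmb.zH

/-- the induction on the centralizer of an involution of the quotient -/
theorem GenAmb.local_kill
    (ih : ∀ {L' : Type u} [Group L'] [Finite L'] {H' : Subgroup L'} {t' z' : L'},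
      Nat.card L' < Nat.card L → GenAmb H' t' z' → Tight H' t')
    {v : L ⧸ H.normalCore} (hv : orderOf v = 2) (hc : Commute (QuotientGroup.mk' H.normalCore z) v)
    (hbad : ¬ centralizer ({v} : Set (L ⧸ H.normalCore)) ≤ H.map (QuotientGroup.mk' H.normalCore))
    {g w : L} (hg : g ∈ invGen ((centralizer ({v} : Set (L ⧸ H.normalCore))).comap
      (QuotientGroup.mk' H.normalCore))) (hgH : g ∉ H)
    (hw : w ∈ invGen ((centralizer ({v} : Set (L ⧸ H.normalCore))).comap (QuotientGroup.mk' H.normalCore)))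
    (hw2 : TwoElt w) (hwH : w ∈ H) (hwg : g⁻¹ * w * g ∈ H) : QuotientGroup.mk' H.normalCore w = 1 := by
  haveI : Fact (Nat.Prime 2) := ⟨Nat.prime_two⟩
  set q := QuotientGroup.mk' H.normalCore with hq
  have hqt : q t = 1 := (QuotientGroup.eq_one_iff t).2 fun g => by
    rw [mem_center_iff.1 D.cent g, mul_inv_cancel_right]; exact D.toAmb.tH
  set C := (centralizer ({v} : Set (L ⧸ H.normalCore))).comap q with hC
  have hmemC : ∀ {x : L}, x ∈ C ↔ Commute (q x) v := fun {x} => mem_centralizer_singleton_iff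
  have htC : t ∈ C := hmemC.2 (hqt ▸ Commute.one_left v)
  have hCH : ¬ C ≤ H := fun h => hbad fun y hy => by
    obtain ⟨x, rfl⟩ := QuotientGroup.mk'_surjective H.normalCore y
    exact mem_map_of_mem _ (h hy)
  obtain ⟨x, hxe⟩ := QuotientGroup.mk'_surjective H.normalCore v
  have hxH : x ∈ H := D.commute_mem (hxe.symm ▸ hc)
  obtain ⟨k, hk, hk2⟩ := exists_two_rep q x (hxe.symm ▸ TwoElt.of_order_two hv)
  -- a Sylow subgroup of the stabilizer in `C`
  obtain ⟨P⟩ := (inferInstance : Nonempty (Sylow 2 ↥(C ⊓ H)))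
  set T := (P : Subgroup ↥(C ⊓ H)).map (C ⊓ H).subtype with hT
  have hTle : T ≤ C ⊓ H := map_subtype_le _
  have hmax : ∀ Y : Subgroup L, IsPGroup 2 Y → Y ≤ C ⊓ H → ∃ c ∈ C ⊓ H, ∀ y ∈ Y, c * y * c⁻¹ ∈ T := by
    intro Y hY hYle
    obtain ⟨c, -, hc⟩ := Cfsg.Lib.ZStarApps.exists_conj_mem_sylow P (H := ⊤) le_top
      (V := Y.subgroupOf (C ⊓ H)) hY.comap_subtype le_top
    exact ⟨c, c.2, fun y hy => ⟨c * ⟨y, hYle hy⟩ * c⁻¹, hc _ hy, rfl⟩⟩
  obtain ⟨c, hc', hcv⟩ := hmax _ hk2.isPGroup (zpowers_le.2 (mem_inf.2 ⟨hmemC.2 (by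
    rw [hk, hxe]), pow_mem hxH k⟩))
  obtain ⟨S, hSH, hzS, hz⟩ := D.sylow
  obtain ⟨h, hh, hhT⟩ := Cfsg.Lib.ZStarApps.exists_conj_mem_sylow S hSH (P.2.map _ : IsPGroup 2 T)
    (hTle.trans inf_le_right)
  set z' := h⁻¹ * z * h with hz'
  have hz2 : orderOf z' = 2 := order_conj_two' D.ztwo h
  have hzt : z' ≠ t := fun e => D.zne (by
    calc z = h * z' * h⁻¹ := (conj_conj_inv h z).symm
      _ = t := by rw [e, mem_center_iff.1 D.cent h, mul_inv_cancel_right])
  have hzc : ∀ s ∈ T, Commute s z' := by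
    intro s hs
    have h1 := (hz _ (hhT s hs)).map (MulAut.conj h⁻¹).toMonoidHom
    simp only [MulEquiv.coe_toMonoidHom, MulAut.conj_apply, inv_inv] at h1
    rwa [show h⁻¹ * (h * s * h⁻¹) * h = s by group] at h1
  have hzC : z' ∈ C ⊓ H := by
    refine mem_inf.2 ⟨hmemC.2 ?_, mul_mem (mul_mem (inv_mem hh) D.toAmb.zH) hh⟩
    have h1 := (hzc _ (hcv _ (mem_zpowers _))).map q
    rw [map_mul, map_mul, map_inv, hk, hxe, (hmemC.1 (mem_inf.1 hc').1).eq, mul_inv_cancel_right] at h1
    exact h1.symm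
  have hzT : z' ∈ T := by
    have hsup : IsPGroup 2 ↥(T ⊔ zpowers z') := by
      refine IsPGroup.to_sup_of_normal_left' (P.2.map _) (TwoElt.of_order_two hz2).isPGroup ?_
      refine zpowers_le.2 (Cfsg.Lib.ZStarApps.mem_normalizer_of_maps fun a ha => ?_)
      rwa [← (hzc a ha).eq, mul_inv_cancel_right]
    have hle : T ⊔ zpowers z' ≤ C ⊓ H := sup_le hTle (zpowers_le.2 hzC)
    obtain ⟨c, -, hc⟩ := hmax _ hsup hle
    have hcard : Nat.card ↥(T ⊔ zpowers z') ≤ Nat.card T := Nat.card_le_card_of_injective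
      (fun y : ↥(T ⊔ zpowers z') => (⟨c * y * c⁻¹, hc _ y.2⟩ : T))
      fun a b hab => Subtype.ext (mul_left_cancel (mul_right_cancel (congrArg Subtype.val hab)))
    rw [eq_of_le_of_card_ge le_sup_left hcard]
    exact mem_sup_right (mem_zpowers z')
  have hD' := D.toAmb.sub C htC hCH T (P.2.map _) hTle hmax z' hzT hzc hz2 hzt
  -- it is proper
  have hlt : Nat.card (invGen C) < Nat.card L := by
    refine lt_of_le_of_ne (Subgroup.card_le_card_group _) fun he => ?_
    have htop : invGen C = ⊤ := eq_top_of_card_eq _ he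
    refine ne_one_of_order_two hv (hxe ▸ (QuotientGroup.eq_one_iff x).2 fun g => D.map_iff.1 ?_)
    have h1 : Commute (q g) v := hmemC.1 (invGen_le C (htop ▸ mem_top g))
    rw [map_mul, map_mul, map_inv, hxe, h1.eq, mul_inv_cancel_right, ← hxe]
    exact mem_map_of_mem _ hxH
  rcases ih hlt hD' ⟨g, hg⟩ hgH ⟨w, hw⟩ (by obtain ⟨a, ha⟩ := hw2; exact ⟨a, Subtype.ext ha⟩) hwH hwg with e | e
  · rw [show w = 1 from congrArg Subtype.val e, map_one]
  · rw [show w = t from congrArg Subtype.val e, hqt]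

/-- the images of the involutions other than `t` are conjugate -/
theorem GenAmb.conj_images
    (ih : ∀ {L' : Type u} [Group L'] [Finite L'] {H' : Subgroup L'} {t' z' : L'},
      Nat.card L' < Nat.card L → GenAmb H' t' z' → Tight H' t')
    {i : L} (hi : orderOf i = 2) (hit : i ≠ t) :
    IsConj (QuotientGroup.mk' H.normalCore z) (QuotientGroup.mk' H.normalCore i) := by
  set q := QuotientGroup.mk' H.normalCore with hq
  obtain ⟨g, hg⟩ := D.toAmb.exists_conj_notMem hi hit
  refine IsConj.trans ?_ (isConj_iff.2 ⟨q g, by rw [← map_inv, ← map_mul, ← map_mul]⟩ :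
    IsConj (q i) (q (g * i * g⁻¹))).symm
  set b := g * i * g⁻¹ with hb
  have hb2 : orderOf b = 2 := order_conj_two hi g
  have hbt : b ≠ t := fun e => hg (e ▸ D.toAmb.tH)
  have hqz := D.map_two D.ztwo D.zne
  have hqb := D.map_two hb2 hbt
  by_cases hodd : Odd (orderOf (q z * q b))
  · obtain ⟨d, -, hd⟩ := conj_of_odd hqz hqb hodd
    exact isConj_iff.2 ⟨d, hd⟩
  exfalso
  obtain ⟨hc2, hcz, hcb⟩ := central_spec hqz hqb (Nat.not_odd_iff_even.1 hodd)
  set k := orderOf (q z * q b) / 2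
  set c := (q z * q b) ^ k with hc
  have hbad : ¬ centralizer ({c} : Set (L ⧸ H.normalCore)) ≤ H.map q := fun h =>
    hg (D.map_iff.1 (h (mem_centralizer_singleton_iff.2 hcb.eq.symm)))
  set C := (centralizer ({c} : Set (L ⧸ H.normalCore))).comap q
  have hzC : z ∈ invGen C := mem_invGen (mem_centralizer_singleton_iff.2 hcz.eq.symm) D.ztwo
  have hbC : b ∈ invGen C := mem_invGen (mem_centralizer_singleton_iff.2 hcb.eq.symm) hb2
  have hqk : q ((z * b) ^ k) = c := by rw [map_pow, map_mul]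
  obtain ⟨j, hj, hj2⟩ := exists_two_rep q ((z * b) ^ k) (hqk.symm ▸ TwoElt.of_order_two hc2)
  rw [hqk] at hj
  have hH : ((z * b) ^ k) ^ j ∈ H := D.commute_mem (hj.symm ▸ hcz.symm)
  have hH' : b⁻¹ * ((z * b) ^ k) ^ j * b ∈ H := by
    refine D.map_iff.1 ?_
    rw [map_mul, map_mul, map_inv, hj, mul_assoc, hcb.eq, inv_mul_cancel_left, ← hj]
    exact mem_map_of_mem _ hH
  have h1 := D.local_kill ih hc2 hcz.symm hbad hbC hg (pow_mem (pow_mem (mul_mem hzC hbC) k) j) hj2 hH hH'
  exact ne_one_of_order_two hc2 (hj.symm.trans h1)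

/-- the strong embedding in the quotient -/
theorem GenAmb.mem_core
    (ih : ∀ {L' : Type u} [Group L'] [Finite L'] {H' : Subgroup L'} {t' z' : L'},
      Nat.card L' < Nat.card L → GenAmb H' t' z' → Tight H' t')
    {g w : L} (hg : g ∉ H) (hw2 : TwoElt w) (hwH : w ∈ H) (hwg : g⁻¹ * w * g ∈ H) : w ∈ H.normalCore := by
  haveI : Fact (Nat.Prime 2) := ⟨Nat.prime_two⟩
  set q := QuotientGroup.mk' H.normalCore with hq
  have hqs : Function.Surjective q := QuotientGroup.mk'_surjective _
  set Hb := H.map q with hHb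
  obtain ⟨S, hSH, hzS, hz⟩ := D.sylow
  have hqz := D.map_two D.ztwo D.zne
  have hne : Hb ≠ ⊤ := fun h => D.ne ((Subgroup.eq_top_iff' H).2 fun x => D.map_iff.1 (h.ge (mem_top _)))
  have hi : ∀ y : L ⧸ H.normalCore, q z ∈ Hb.map (MulAut.conj y).toMonoidHom ↔ y ∈ Hb := by
    intro y
    obtain ⟨y, rfl⟩ := hqs y
    rw [Cfsg.Lib.StrongEmb.mem_conj_iff, ← map_inv, ← map_mul, ← map_mul, D.map_iff, D.map_iff]
    exact ⟨D.single z D.ztwo D.zne D.toAmb.zH y, fun h => mul_mem (mul_mem (inv_mem h) D.toAmb.zH) h⟩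
  have hii : ∀ v : L ⧸ H.normalCore, orderOf v = 2 → v * q z = q z * v →
      ¬ centralizer ({v} : Set (L ⧸ H.normalCore)) ≤ Hb →
      Cfsg.IsStronglyEmbedded (Hb.subgroupOf (closure {x | IsConj (q z) x ∧ x * v = v * x})) := by
    intro v hv hvz hbad
    set K := closure {x | IsConj (q z) x ∧ x * v = v * x} with hK
    set C := (centralizer ({v} : Set (L ⧸ H.normalCore))).comap q with hC
    have hKle : K ≤ (invGen C).map q := by
      refine (closure_le _).2 fun x hx => ?_
      obtain ⟨y, hy⟩ := isConj_iff.1 hx.1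
      obtain ⟨y, rfl⟩ := hqs y
      have he : q (y * z * y⁻¹) = x := by rw [map_mul, map_mul, map_inv, hy]
      exact ⟨_, mem_invGen (mem_centralizer_singleton_iff.2 (he.symm ▸ hx.2)) (order_conj_two D.ztwo y), he⟩
    have hzK : q z ∈ K := subset_closure ⟨IsConj.refl _, hvz.symm⟩
    refine ⟨fun h => hbad fun y hy => (hi y).1 (Cfsg.Lib.StrongEmb.mem_conj_iff.2
      (subgroupOf_eq_top.1 h (subset_closure ?_))), ?_, fun g hg => ?_⟩
    · refine ⟨isConj_iff.2 ⟨y⁻¹, by rw [inv_inv]⟩, ?_⟩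
      have hyv : Commute y v := mem_centralizer_singleton_iff.1 hy
      exact ((hyv.inv_left.mul_left (show Commute (q z) v from hvz.symm)).mul_left hyv).eq
    · exact even_iff_two_dvd.2 ((show orderOf (⟨q z, hzK⟩ : K) = 2 by rw [Subgroup.orderOf_mk, hqz]) ▸
        orderOf_dvd_natCard _ (show (⟨q z, hzK⟩ : K) ∈ Hb.subgroupOf K from mem_map_of_mem _ D.toAmb.zH))
    · rw [← Nat.not_even_iff_odd]
      intro he
      obtain ⟨w, hw, hw2⟩ := Cfsg.Lib.StrongEmb.exists_involution_of_even he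
      obtain ⟨hw1, hw3⟩ := mem_inf.1 hw
      rw [Cfsg.Lib.StrongEmb.mem_conj_iff, mem_subgroupOf, Subgroup.coe_mul, Subgroup.coe_mul,
        Subgroup.coe_inv] at hw3
      rw [mem_subgroupOf] at hw1
      obtain ⟨x, hx, hxe⟩ := hKle w.2
      obtain ⟨y, hy, hye⟩ := hKle g.2
      obtain ⟨k, hk, hk2⟩ := exists_two_rep q x
        (hxe.symm ▸ TwoElt.of_order_two (by rw [Subgroup.orderOf_coe, hw2]))
      have h1 := D.local_kill ih hv (show Commute (q z) v from hvz.symm) hbad hy
        (fun h => hg (show (g : L ⧸ H.normalCore) ∈ Hb from hye ▸ mem_map_of_mem _ h)) (pow_mem hx k) hk2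
        (D.map_iff.1 (by rw [hk, hxe]; exact hw1))
        (D.map_iff.1 (by rw [map_mul, map_mul, map_inv, hye, hk, hxe]; exact hw3))
      rw [hk, hxe] at h1
      rw [show w = 1 from Subtype.ext h1, orderOf_one] at hw2
      exact absurd hw2 (by norm_num)
  have hse := Cfsg.Lib.BenderSE.CritDep.general_of_crit Crit2.criterionFinal (S.mapSurjective hqs) (q z) hqz
    ⟨⟨q z, ⟨z, hzS, rfl⟩⟩, mem_center_iff.2 fun ⟨_, s, hs, e⟩ => Subtype.ext (by
      subst e
      show q s * q z = q z * q s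
      rw [← map_mul, (hz s hs).eq, map_mul]), rfl⟩ Hb hne hi hii
  -- the normal closure is everything
  have hK : normalClosure ({q z} : Set (L ⧸ H.normalCore)) = ⊤ := by
    rw [eq_top_iff, ← map_top_of_surjective q hqs, ← D.gen, MonoidHom.map_closure, closure_le]
    rintro _ ⟨i, hi, rfl⟩
    by_cases hit : i = t
    · have : q i = 1 := (QuotientGroup.eq_one_iff i).2 fun g => by
        rw [hit, mem_center_iff.1 D.cent g, mul_inv_cancel_right]; exact D.toAmb.tH
      rw [this]; exact one_mem _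
    · obtain ⟨y, hy⟩ := isConj_iff.1 (D.conj_images ih hi hit)
      rw [SetLike.mem_coe, ← hy]
      exact Normal.conj_mem inferInstance _ (subset_normalClosure (Set.mem_singleton _)) y
  rw [hK] at hse
  by_contra hN
  have hqw : q w ≠ 1 := fun h => hN ((QuotientGroup.eq_one_iff w).1 h)
  obtain ⟨k, hk⟩ := exists_involution_pow (hw2.map q) hqw
  have h1 := Cfsg.Lib.StrongEmb.mem_of_involution hse
    (t := (⟨q w ^ k, mem_top _⟩ : (⊤ : Subgroup (L ⧸ H.normalCore)))) (g := ⟨q g, mem_top _⟩)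
    (by rw [Subgroup.orderOf_mk, hk]) (pow_mem (mem_map_of_mem _ hwH : q w ∈ Hb) k) (by
      show (q g)⁻¹ * q w ^ k * q g ∈ Hb
      have := pow_mem (mem_map_of_mem q hwg : q (g⁻¹ * w * g) ∈ Hb) k
      rwa [map_mul, map_mul, map_inv, show (q g)⁻¹ * q w * q g = (q g)⁻¹ * q w * (q g)⁻¹⁻¹ by rw [inv_inv],
        conj_pow, inv_inv] at this)
  exact hg (D.map_iff.1 h1)

omit D in
/-- the odd core of the core of the stabilizer -/
def coreOdd (H : Subgroup L) : Subgroup L := (Cfsg.pPrimeCore 2 H.normalCore).map H.normalCore.subtype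

omit D in
instance coreOdd_normal (H : Subgroup L) : (coreOdd H).Normal := ConjAct.normal_of_characteristic_of_normal

omit D in
theorem odd_coreOdd (H : Subgroup L) : Odd (Nat.card (coreOdd H)) := by
  rw [coreOdd, card_map_of_injective H.normalCore.subtype_injective]
  exact Cfsg.Lib.ZStarApps.odd_card_pPrimeCore

/-- modulo the odd core of the core: a central two-group with one involution -/
theorem GenAmb.data
    (ih : ∀ {L' : Type u} [Group L'] [Finite L'] {H' : Subgroup L'} {t' z' : L'},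
      Nat.card L' < Nat.card L → GenAmb H' t' z' → Tight H' t') :
    CentralData (H.map (QuotientGroup.mk' (coreOdd H))) (H.normalCore.map (QuotientGroup.mk' (coreOdd H)))
      (QuotientGroup.mk' (coreOdd H) t) (QuotientGroup.mk' (coreOdd H) z) := by
  haveI : Fact (Nat.Prime 2) := ⟨Nat.prime_two⟩
  obtain ⟨S, hSH, hzS, hz⟩ := D.sylow
  set N := H.normalCore with hN
  set q := QuotientGroup.mk' N with hq
  set O := coreOdd H with hO
  have hOodd : Odd (Nat.card O) := by
    rw [hO, coreOdd, card_map_of_injective N.subtype_injective]; exact Cfsg.Lib.ZStarApps.odd_card_pPrimeCore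
  have hON : O ≤ N := map_subtype_le _
  have htN : t ∈ N := fun g => by rw [mem_center_iff.1 D.cent g, mul_inv_cancel_right]; exact D.toAmb.tH
  have hNt : ∀ x ∈ N, x * x = 1 → x = 1 ∨ x = t := fun x hx h => by
    by_cases h1 : x = 1
    · exact Or.inl h1
    · exact Or.inr (D.toAmb.eq_of_mem_core (order_two_of_mul_self h h1) hx)
  -- `z` centralizes `N` modulo `O`
  have hzN : ∀ n ∈ N, z * n * z⁻¹ * n⁻¹ ∈ O := by
    set K := N ⊔ zpowers z with hK
    have hzK : z ∈ K := mem_sup_right (mem_zpowers z)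
    have htK : t ∈ K := mem_sup_left htN
    have hSK : (S : Subgroup L) ≤ normalizer (K : Set L) := fun s hs =>
      Cfsg.Lib.ZStarApps.mem_normalizer_of_maps fun a ha => by
        obtain ⟨n, hn, y, hy, rfl⟩ := mem_sup_of_normal_left.1 ha
        obtain ⟨m, rfl⟩ := hy
        rw [show s * (n * z ^ m) * s⁻¹ = (s * n * s⁻¹) * (s * z ^ m * s⁻¹) by group,
          ((hz s hs).zpow_right m).eq, mul_inv_cancel_right]
        exact mul_mem_sup ((inferInstance : N.Normal).conj_mem n hn s) ⟨m, rfl⟩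
    obtain ⟨P, hP⟩ := Cfsg.Lib.BenderSE.CritDep.exists_sylow_inf S K hSK
    have hiso := isolated_of_pair (G := K) P (z := ⟨z, hzK⟩) (t := ⟨t, htK⟩)
      (by rw [Subgroup.orderOf_mk, D.two]) (mem_center_iff.2 fun y => Subtype.ext (mem_center_iff.1 D.cent y))
      (by rw [Subgroup.orderOf_mk, D.ztwo]) (fun h => D.zne (congrArg Subtype.val h))
      (by rw [hP]; exact hzS) (fun s hs => Subtype.ext (hz _ (by rw [hP] at hs; exact hs))) (fun x hx hx2 => ?_)
    · intro n hn
      have h1 := Cfsg.Lib.ZStarApps.zstarProp hiso ⟨n, mem_sup_left hn⟩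
      set M := ((Cfsg.pPrimeCore 2 K).map K.subtype).subgroupOf N with hM
      haveI hMn : M.Normal := ⟨fun m hm a => by
        obtain ⟨b, hb, hbe⟩ := hm
        refine ⟨⟨a, mem_sup_left a.2⟩ * b * ⟨a, mem_sup_left a.2⟩⁻¹, Normal.conj_mem inferInstance b hb _, ?_⟩
        show (a : L) * (b : L) * (a : L)⁻¹ = (a : L) * (m : L) * (a : L)⁻¹
        rw [show (b : L) = (m : L) from hbe]⟩
      have hMo : Odd (Nat.card M) := by
        refine (Cfsg.Lib.ZStarApps.odd_card_pPrimeCore (G := K)).of_dvd_nat ?_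
        rw [← card_map_of_injective K.subtype_injective, ← card_map_of_injective N.subtype_injective (K := M),
          hM, subgroupOf_map_subtype]
        exact card_dvd_of_le inf_le_left
      refine ⟨⟨z * n * z⁻¹ * n⁻¹, mul_mem (Normal.conj_mem inferInstance n hn z) (inv_mem hn)⟩, ?_, rfl⟩
      exact Cfsg.Lib.Components.le_pPrimeCore (Nat.coprime_two_right.2 hMo) ⟨_, h1, rfl⟩
    · rw [hP, mem_subgroupOf] at hx
      obtain ⟨n, hn, y, hy, he⟩ := mem_sup_of_normal_left.1 (show (x : L) ∈ N ⊔ zpowers z from x.2)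
      have hx2' : (x : L) * x = 1 := sq_of_order_two (by rw [Subgroup.orderOf_coe, hx2])
      have hy' : y = 1 ∨ y = z := by
        obtain ⟨m, rfl⟩ := hy
        rcases Int.even_or_odd m with ⟨i, rfl⟩ | ⟨i, rfl⟩
        · exact Or.inl (show z ^ (i + i) = 1 by
            rw [← two_mul, zpow_mul, zpow_two, sq_of_order_two D.ztwo, one_zpow])
        · exact Or.inr (show z ^ (2 * i + 1) = z by
            rw [zpow_add, zpow_mul, zpow_two, sq_of_order_two D.ztwo, one_zpow, zpow_one, one_mul])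
      rcases hy' with rfl | rfl
      · rw [mul_one] at he
        exact Or.inr (Or.inl (Subtype.ext (D.toAmb.eq_of_mem_core (by rw [Subgroup.orderOf_coe, hx2]) (he ▸ hn))))
      · have hnz : n = (x : L) * y := by rw [← he, mul_assoc, sq_of_order_two D.ztwo, mul_one]
        have hnn : n * n = 1 := by
          rw [hnz, (hz _ hx).symm.mul_mul_mul_comm, hx2', sq_of_order_two D.ztwo, one_mul]
        rcases hNt n hn hnn with rfl | rfl
        · exact Or.inl (Subtype.ext (by rw [← he, one_mul]))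
        · exact Or.inr (Or.inr (Subtype.ext (he.symm.trans (mem_center_iff.1 D.cent y).symm)))
  set p := QuotientGroup.mk' O with hp
  have hps : Function.Surjective p := QuotientGroup.mk'_surjective O
  have hp1 : ∀ {x : L}, p x = 1 ↔ x ∈ O := fun {x} => QuotientGroup.eq_one_iff x
  have hrep : ∀ n ∈ N, p n * p n = 1 → p n = 1 ∨ p n = p t := by
    intro n hn h
    obtain ⟨k, hk, hk2⟩ := exists_two_rep p n ⟨1, by rw [pow_one, pow_two, h]⟩
    have h1 := TwoElt.eq_one_of_odd hOodd (hk2.pow 2) (hp1.1 (by rw [pow_two, map_mul, hk, h]))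
    rw [pow_two] at h1
    rcases hNt _ (pow_mem hn k) h1 with e | e
    · exact Or.inl (by rw [← hk, e, map_one])
    · exact Or.inr (by rw [← hk, e])
  -- the involutions centralize `N` modulo `O`
  have hzg : ∀ (y : L) (n : L), n ∈ N → Commute (p (y * z * y⁻¹)) (p n) := by
    intro y n hn
    have h1 := hp1.2 (hzN (y⁻¹ * n * y) (by simpa using Normal.conj_mem inferInstance n hn y⁻¹))
    rw [map_mul, map_mul, map_mul, map_inv, map_inv, mul_inv_eq_one, mul_inv_eq_iff_eq_mul] at h1
    have h2 := (show Commute (p z) (p (y⁻¹ * n * y)) from h1).map (MulAut.conj (p y)).toMonoidHom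
    simp only [MulEquiv.coe_toMonoidHom, MulAut.conj_apply] at h2
    rw [← map_inv, ← map_mul, ← map_mul, ← map_mul, ← map_mul, conj_conj_inv] at h2
    exact h2
  have hcentral : ∀ n ∈ N, ∀ y : L, Commute (p y) (p n) := by
    have hpi : ∀ i : L, orderOf i = 2 → ∀ n ∈ N, Commute (p i) (p n) := by
      intro i hi n hn
      by_cases hit : i = t
      · rw [hit]; exact (Commute.map (mem_center_iff.1 D.cent n : Commute n t) p).symm
      obtain ⟨y, hy⟩ := isConj_iff.1 (D.conj_images ih hi hit)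
      obtain ⟨y, rfl⟩ := QuotientGroup.mk'_surjective N y
      have hm : y * z * y⁻¹ * i ∈ N := (QuotientGroup.eq_one_iff _).1 (by
        show q (y * z * y⁻¹ * i) = 1
        rw [map_mul, map_mul, map_mul, map_inv, hy, ← map_mul, sq_of_order_two hi, map_one])
      set e := y * z * y⁻¹ with he
      have he2 : orderOf e = 2 := order_conj_two D.ztwo y
      have hie : p i = p e * p (e * i) := by rw [← map_mul, ← mul_assoc, sq_of_order_two he2, one_mul]
      have hsq : p (e * i) * p (e * i) = 1 := by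
        have h1 : p i * p i = 1 := by rw [← map_mul, sq_of_order_two hi, map_one]
        rw [hie, (hzg y _ hm).symm.mul_mul_mul_comm, ← map_mul p e e, sq_of_order_two he2, map_one, one_mul] at h1
        exact h1
      rw [hie]
      refine (hzg y n hn).mul_left ?_
      rcases hrep _ hm hsq with h | h
      · rw [h]; exact Commute.one_left _
      · rw [h]; exact (Commute.map (mem_center_iff.1 D.cent n : Commute n t) p).symm
    intro n hn
    let U : Subgroup L := (centralizer ({p n} : Set (L ⧸ O))).comap p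
    have hU : (⊤ : Subgroup L) ≤ U := by
      rw [← D.gen, closure_le]
      exact fun i hi => mem_centralizer_singleton_iff.2 (hpi i hi n hn).eq
    exact fun y => mem_centralizer_singleton_iff.1 (hU (mem_top y))
  have hpH : ∀ {x : L}, p x ∈ H.map p ↔ x ∈ H := by
    intro x
    refine ⟨?_, fun h => mem_map_of_mem _ h⟩
    rintro ⟨h, hh, he⟩
    have h2 := mul_mem hh (H.normalCore_le (hON (QuotientGroup.eq.1 he)))
    rwa [mul_inv_cancel_left] at h2
  have hpt : orderOf (p t) = 2 := order_two_of_mul_self (by rw [← map_mul, sq_of_order_two D.two, map_one])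
    fun h => ne_one_of_order_two D.two (TwoElt.eq_one_of_odd hOodd (TwoElt.of_order_two D.two) (hp1.1 h))
  have htwo : IsPGroup 2 (N.map p) := by
    rintro ⟨_, n, hn, rfl⟩
    obtain ⟨e, m, hm, hne⟩ := Nat.exists_eq_two_pow_mul_odd (orderOf_pos n).ne'
    refine ⟨e, Subtype.ext ?_⟩
    show p n ^ 2 ^ e = 1
    rw [← map_pow, hp1]
    set W := Cfsg.pPrimeCore 2 N
    set a : N := ⟨n ^ 2 ^ e, pow_mem hn _⟩
    have hma : ∀ b : N, Commute (QuotientGroup.mk' W b) (QuotientGroup.mk' W a) := by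
      intro b
      have h1 := (hcentral (a : L) a.2 b).eq
      rw [← map_mul, ← map_mul] at h1
      obtain ⟨w, hw, hwe⟩ := QuotientGroup.eq.1 h1
      show QuotientGroup.mk' W b * QuotientGroup.mk' W a = QuotientGroup.mk' W a * QuotientGroup.mk' W b
      rw [← map_mul, ← map_mul]
      exact QuotientGroup.eq.2 (by rwa [show (b * a)⁻¹ * (a * b) = w from Subtype.ext hwe.symm])
    haveI : (zpowers (QuotientGroup.mk' W a)).Normal := ⟨fun x hx b => by
      obtain ⟨b, rfl⟩ := QuotientGroup.mk'_surjective W b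
      obtain ⟨i, rfl⟩ := hx
      rw [((hma b).zpow_right i).eq, mul_inv_cancel_right]
      exact ⟨i, rfl⟩⟩
    have hao : Odd (Nat.card (zpowers (QuotientGroup.mk' W a))) := by
      rw [Nat.card_zpowers]
      refine hm.of_dvd_nat ((orderOf_map_dvd _ a).trans (orderOf_dvd_of_pow_eq_one (Subtype.ext ?_)))
      show (n ^ 2 ^ e) ^ m = 1
      rw [← pow_mul, ← hne, pow_orderOf_eq_one]
    have h2 := Cfsg.Lib.Components.le_pPrimeCore (Nat.coprime_two_right.2 hao) (mem_zpowers (QuotientGroup.mk' W a))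
    rw [Cfsg.Lib.Components.pPrimeCore_quotient_eq_bot, mem_bot] at h2
    exact ⟨a, (QuotientGroup.eq_one_iff a).1 h2, rfl⟩
  refine ⟨?_, ?_, htwo, mem_map_of_mem _ htN, hpt, ?_, fun h => D.ne ((Subgroup.eq_top_iff' H).2 fun x =>
    hpH.1 (h.ge (mem_top _))), ?_, ?_, ?_, ?_, ?_⟩
  · rintro _ ⟨n, hn, rfl⟩
    exact mem_center_iff.2 fun y => by
      obtain ⟨y, rfl⟩ := hps y
      exact (hcentral n hn y).eq
  · refine le_antisymm (fun x hx => ?_) ?_
    · obtain ⟨x, rfl⟩ := hps x
      refine mem_map_of_mem _ (fun g => hpH.1 ?_)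
      rw [map_mul, map_mul, map_inv]; exact hx _
    · haveI : (N.map p).Normal := Subgroup.Normal.map inferInstance p hps
      exact normal_le_normalCore.2 (map_mono H.normalCore_le)
  · rintro _ ⟨n, hn, rfl⟩ hn2
    exact (hrep n hn (sq_of_order_two hn2)).resolve_left (ne_one_of_order_two hn2)
  · rw [eq_top_iff, ← map_top_of_surjective p hps, ← D.gen, MonoidHom.map_closure, closure_le]
    rintro _ ⟨i, hi, rfl⟩
    by_cases h : p i = 1
    · rw [h]; exact one_mem _
    · exact subset_closure (order_two_of_mul_self (by rw [← map_mul, sq_of_order_two hi, map_one]) h)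
  · intro y hy w hw hwH hwy
    obtain ⟨y, rfl⟩ := hps y
    obtain ⟨x, rfl⟩ := hps w
    obtain ⟨k, hk, hk2⟩ := exists_two_rep p x hw
    rw [← hk, ← map_inv, ← map_mul, ← map_mul, hpH] at hwy
    rw [← hk, hpH] at hwH
    exact hk ▸ mem_map_of_mem _ (D.mem_core ih (fun h => hy (mem_map_of_mem _ h)) hk2 hwH hwy)
  · refine ⟨S.mapSurjective hps, map_mono hSH, ⟨z, hzS, rfl⟩, ?_⟩
    rintro _ ⟨s, hs, rfl⟩
    exact (hz s hs).map p
  · refine order_two_of_mul_self (by rw [← map_mul, sq_of_order_two D.ztwo, map_one]) fun h => ?_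
    exact ne_one_of_order_two D.ztwo (TwoElt.eq_one_of_odd hOodd (TwoElt.of_order_two D.ztwo) (hp1.1 h))
  · intro h
    have h1 : z * t ∈ O := hp1.1 (by rw [map_mul, h, ← map_mul, sq_of_order_two D.two, map_one])
    have h2 := TwoElt.eq_one_of_odd hOodd (⟨1, by
      rw [pow_one, pow_two, (Commute.symm (mem_center_iff.1 D.cent z : Commute z t)).mul_mul_mul_comm,
        sq_of_order_two D.ztwo, sq_of_order_two D.two, one_mul]⟩ : TwoElt (z * t)) h1
    exact D.zne ((eq_inv_of_mul_eq_one_left h2).trans (inv_of_order_two D.two))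

/-- one step of the induction -/
theorem GenAmb.step
    (ih : ∀ {L' : Type u} [Group L'] [Finite L'] {H' : Subgroup L'} {t' z' : L'},
      Nat.card L' < Nat.card L → GenAmb H' t' z' → Tight H' t') : Tight H t := by
  intro g₀ hg₀ w₀ hw₀ hw₀H hw₀g
  have hw₀N := D.mem_core ih hg₀ hw₀ hw₀H hw₀g
  have hdata := D.data ih
  have hOodd := odd_coreOdd H
  set p := QuotientGroup.mk' (coreOdd H)
  have hp1 : ∀ {x : L}, p x = 1 ↔ x ∈ coreOdd H := fun {x} => QuotientGroup.eq_one_iff x
  obtain ⟨a, ha⟩ := hw₀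
  rcases hdata.eq_one_or (mem_map_of_mem p hw₀N) with h | h
  · exact Or.inl (TwoElt.eq_one_of_odd hOodd ⟨a, ha⟩ (hp1.1 h))
  · refine Or.inr ?_
    have hc : Commute w₀ t := mem_center_iff.1 D.cent w₀
    have h1 : (w₀ * t) ^ 2 ^ (a + 1) = 1 := by
      rw [hc.mul_pow, pow_succ, pow_mul, ha, one_pow, one_mul, mul_comm, pow_mul, pow_two, sq_of_order_two D.two,
        one_pow]
    have h2 := TwoElt.eq_one_of_odd hOodd ⟨a + 1, h1⟩
      (hp1.1 (by rw [map_mul, h, ← map_mul, sq_of_order_two D.two, map_one]))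
    exact (eq_inv_of_mul_eq_one_left h2).trans (inv_of_order_two D.two)

end Step

/-- two-elements other than `1, t` fix a single point -/
theorem GenAmb.tight (D : GenAmb H t z) : Tight H t := by
  suffices key : ∀ (n : ℕ) {L : Type u} [Group L] [Finite L] {H : Subgroup L} {t z : L},
      Nat.card L < n → GenAmb H t z → Tight H t from key _ (Nat.lt_succ_self _) D
  intro n
  induction n with
  | zero => intro L _ _ H t z h; exact absurd h (Nat.not_lt_zero _)
  | succ n ih =>
    intro L _ _ H t z h D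
    exact D.step fun {L'} _ _ {H'} {t' z'} hlt D' => ih (lt_of_lt_of_le hlt (Nat.lt_succ_iff.1 h)) D'

end Cfsg.Lib.TwoCore
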